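import Groth.Agent.QRlimLib.Unbounded
import Groth.Agent.KFlatLib.QCohLpull
import Groth.Agent.SpSeqLib.AcyclicComplex

/-!
# Complexes of acyclic quasi-coherent modules compute `Rf_*`
-/

set_option autoImplicit false
set_option linter.style.haveILetI false

universe v u

open CategoryTheory CategoryTheory.Limits AlgebraicGeometry Pretriangulated HomologicalComplex

attribute [local instance] HasDerivedCategory.standard

namespace QRlimLib

section Brutal

variable {A : Type u} [Category.{v} A] [Abelian A]

/-- Brutal truncation as a subcomplex. -/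
theorem exists_brutal (K : CochainComplex A ℤ) (n : ℤ) :
    ∃ (K' : CochainComplex A ℤ) (ι : K' ⟶ K), K'.IsStrictlyGE n ∧
      ∀ i, n ≤ i → IsIso (ι.f i) := by
  classical
  obtain ⟨Z, hZ⟩ := HasZeroObject.zero (C := A)
  let E' : CochainComplex A ℤ :=
    { X := fun i => if n ≤ i then K.X i else Z
      d := fun i j => if h : n ≤ i ∧ n ≤ j then
          eqToHom (if_pos h.1) ≫ K.d i j ≫ eqToHom (if_pos h.2).symm else 0
      shape := fun i j hij => by
        split
        · rw [K.shape i j hij, zero_comp, comp_zero]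
        · rfl
      d_comp_d' := fun i j k _ _ => by
        by_cases hi : n ≤ i ∧ n ≤ j
        · by_cases hj : n ≤ j ∧ n ≤ k
          · rw [dif_pos hi, dif_pos hj]
            simp
          · rw [dif_neg hj, comp_zero]
        · rw [dif_neg hi, zero_comp] }
  let ι : E' ⟶ K :=
    { f := fun i => if h : n ≤ i then eqToHom (if_pos h) else 0
      comm' := fun i j hij => by
        have hij' : i + 1 = j := hij
        change _ = (if h : n ≤ i ∧ n ≤ j then _ else 0) ≫ _
        by_cases hi : n ≤ i
        · rw [dif_pos hi, dif_pos ⟨hi, by omega⟩, dif_pos (show n ≤ j by omega)]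
          simp
        · rw [dif_neg hi, dif_neg (fun h => hi h.1), zero_comp, zero_comp] }
  refine ⟨E', ι, (CochainComplex.isStrictlyGE_iff _ _).2 fun i hi => ?_, fun i hi => ?_⟩
  · have : E'.X i = Z := if_neg (by omega)
    rw [this]
    exact hZ
  · have : ι.f i = eqToHom (if_pos hi) := dif_pos hi
    rw [this]
    infer_instance

theorem isIso_homologyMap_brutal {K L : CochainComplex A ℤ} (ι : K ⟶ L) (n : ℤ)
    (h : ∀ i, n ≤ i → IsIso (ι.f i)) (q : ℤ) (hq : n + 1 ≤ q) : IsIso (homologyMap ι q) := by
  rw [← quasiIsoAt_iff_isIso_homologyMap, quasiIsoAt_iff' ι (q - 1) q (q + 1) (by simp) (by simp)]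
  have : IsIso ((shortComplexFunctor' A (ComplexShape.up ℤ) (q - 1) q (q + 1)).map ι).τ₁ :=
    h (q - 1) (by omega)
  have : IsIso ((shortComplexFunctor' A (ComplexShape.up ℤ) (q - 1) q (q + 1)).map ι).τ₂ :=
    h q (by omega)
  have : IsIso ((shortComplexFunctor' A (ComplexShape.up ℤ) (q - 1) q (q + 1)).map ι).τ₃ :=
    h (q + 1) (by omega)
  exact ShortComplex.quasiIso_of_epi_of_isIso_of_mono _

theorem isIso_Qh_map_homology [HasDerivedCategory A] {K L : CochainComplex A ℤ} (ι : K ⟶ L) (q : ℤ)
    [IsIso (homologyMap ι q)] :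
    IsIso ((DerivedCategory.homologyFunctor A q).map (DerivedCategory.Qh.map
      ((HomotopyCategory.quotient A (ComplexShape.up ℤ)).map ι))) := by
  change IsIso ((HomotopyCategory.quotient A (ComplexShape.up ℤ) ⋙ DerivedCategory.Qh ⋙
    DerivedCategory.homologyFunctor A q).map ι)
  exact (NatIso.isIso_map_iff ((Functor.associator _ _ _).symm ≪≫
    Functor.isoWhiskerRight (DerivedCategory.quotientCompQhIso A) _ ≪≫
      DerivedCategory.homologyFunctorFactors A q) ι).2 ‹_›

end Brutal

variable {X S : Scheme.{u}} (f : X ⟶ S)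

/-- The unit of `Rf_*`. -/
noncomputable abbrev rpushUnit [DCoh.HasRpush f] : DCoh.pushKh f ⟶ DerivedCategory.Qh ⋙ DCoh.Rpush f :=
  (DCoh.pushKh f).totalRightDerivedUnit DerivedCategory.Qh
    (HomotopyCategory.quasiIso X.Modules (ComplexShape.up ℤ))

/-- A bounded below complex of acyclic modules computes `Rf_*`. -/
theorem isIso_rpushUnit_of_bddBelow [DCoh.HasRpush f] [HasInjectiveResolutions X.Modules]
    (F : CochainComplex X.Modules ℤ) (a : ℤ) [F.IsStrictlyGE a]
    (hac : ∀ (n : ℤ) (i : ℕ), 0 < i → IsZero ((Coh.Rpush f i).obj (F.X n))) :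
    IsIso ((rpushUnit f).app ((HomotopyCategory.quotient X.Modules (ComplexShape.up ℤ)).obj F)) := by
  haveI : EnoughInjectives X.Modules := IsGrothendieckAbelian.enoughInjectives.{u}
  haveI : PreservesLimitsOfSize.{0, 0} (Scheme.Modules.pushforward f) :=
    (Scheme.Modules.pullbackPushforwardAdjunction f).rightAdjoint_preservesLimits
  haveI : PreservesFiniteLimits (Scheme.Modules.pushforward f) :=
    PreservesLimitsOfSize.preservesFiniteLimits _
  obtain ⟨I, i, hI, hinj, -, hi⟩ :=
    Groth.Agent.DerLib.Horseshoe.exists_injective_resolution F a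
  haveI := hI
  haveI := hinj
  haveI := hi
  haveI : I.IsKInjective := CochainComplex.isKInjective_of_injective I a
  haveI hq : QuasiIso (((Scheme.Modules.pushforward f).mapHomologicalComplex (ComplexShape.up ℤ)).map i) :=
    SpSeqLib.quasiIso_map_of_isSAcyclic (Scheme.Modules.pushforward f) i a
      (fun n => (SpSeqLib.isSAcyclic_iff _ _).2 (hac n))
      (fun n => SpSeqLib.isSAcyclic_of_injective _ _)
  haveI : IsIso ((DCoh.pushKh f).map ((HomotopyCategory.quotient _ (ComplexShape.up ℤ)).map i)) :=
    Localization.inverts DerivedCategory.Qh (HomotopyCategory.quasiIso S.Modules (ComplexShape.up ℤ)) _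
      ((HomotopyCategory.quotient_map_mem_quasiIso_iff _).2
        ((HomologicalComplex.mem_quasiIso_iff _).2 hq))
  haveI : IsIso ((DerivedCategory.Qh ⋙ DCoh.Rpush f).map
      ((HomotopyCategory.quotient _ (ComplexShape.up ℤ)).map i)) := by
    haveI : IsIso (DerivedCategory.Qh.map ((HomotopyCategory.quotient _ (ComplexShape.up ℤ)).map i)) :=
      Localization.inverts DerivedCategory.Qh (HomotopyCategory.quasiIso X.Modules (ComplexShape.up ℤ)) _
        ((HomotopyCategory.quotient_map_mem_quasiIso_iff _).2
          ((HomologicalComplex.mem_quasiIso_iff _).2 hi))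
    exact Functor.map_isIso (DCoh.Rpush f) _
  haveI := Groth.Agent.DerLib.KInjDerived.isIso_app (DCoh.Rpush f) (rpushUnit f)
    KFlatLib.enoughKInj_modules I
  have w := (rpushUnit f).naturality ((HomotopyCategory.quotient _ (ComplexShape.up ℤ)).map i)
  haveI : IsIso ((rpushUnit f).app _ ≫ (DerivedCategory.Qh ⋙ DCoh.Rpush f).map
      ((HomotopyCategory.quotient _ (ComplexShape.up ℤ)).map i)) := by
    rw [← w]
    infer_instance
  exact IsIso.of_isIso_comp_right _ ((DerivedCategory.Qh ⋙ DCoh.Rpush f).map
    ((HomotopyCategory.quotient _ (ComplexShape.up ℤ)).map i))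

variable [QuasiCompact f] [QuasiSeparated f]

/-- A complex of acyclic quasi-coherent modules computes `Rf_*`. -/
theorem isIso_rpushUnit [DCoh.HasRpush f] [HasInjectiveResolutions X.Modules]
    (F : CochainComplex X.Modules ℤ) (hq : ∀ n : ℤ, Coh.IsQCoh (F.X n))
    (hac : ∀ (n : ℤ) (i : ℕ), 0 < i → IsZero ((Coh.Rpush f i).obj (F.X n))) :
    IsIso ((rpushUnit f).app ((HomotopyCategory.quotient X.Modules (ComplexShape.up ℤ)).obj F)) := by
  rw [DerivedCategory.isIso_iff]
  intro m
  refine QCohLib.isIso_of_bijective_affine _ fun V hV => ?_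
  obtain ⟨d, hd⟩ := exists_bound f hV
  obtain ⟨F', ι, hge, hι⟩ := exists_brutal F (m - d - 1)
  haveI := hge
  let φ := DerivedCategory.Qh.map ((HomotopyCategory.quotient X.Modules (ComplexShape.up ℤ)).map ι)
  have hqF' : ∀ i, Coh.IsQCoh (F'.X i) := fun i => by
    by_cases h : m - d - 1 ≤ i
    · haveI := hι i h
      exact @QCohLib.isQCoh_of_iso _ _ _ (asIso (ι.f i)).symm (hq i)
    · exact KFlatLib.isQCoh_zero (F'.isZero_of_isStrictlyGE (m - d - 1) i (by omega))
  have hqD : ∀ (C : CochainComplex X.Modules ℤ), (∀ i, Coh.IsQCoh (C.X i)) → DCoh.IsQCohD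
      (DerivedCategory.Qh.obj ((HomotopyCategory.quotient X.Modules (ComplexShape.up ℤ)).obj C)) :=
    fun C hC j => @QCohLib.isQCoh_of_iso _ _ _
      ((DerivedCategory.homologyFunctor X.Modules j).mapIso
        ((DerivedCategory.quotientCompQhIso X.Modules).app C) ≪≫
        (DerivedCategory.homologyFunctorFactors X.Modules j).app C).symm
      (KFlatLib.isQCoh_homology_of_terms C hC j)
  obtain ⟨C, g, δ, hT⟩ := Pretriangulated.distinguished_cocone_triangle φ
  have hC : DCoh.IsQCohD C :=
    KFlatLib.isQCohD₂ (T := (Triangle.mk φ g δ).rotate) (rot_of_distTriang _ hT) (hqD F hq)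
      (KFlatLib.isQCohD_shift (hqD F' hqF') 1)
  have hφ : ∀ q, m - d ≤ q → IsIso ((DerivedCategory.homologyFunctor X.Modules q).map φ) := fun q h =>
    haveI := isIso_homologyMap_brutal ι (m - d - 1) hι q (by omega)
    isIso_Qh_map_homology ι q
  haveI : C.IsLE (m - d - 1) := by
    rw [DerivedCategory.isLE_iff]
    intro q hq'
    refine (DerivedCategory.HomologySequence.exact₃ _ hT q (q + 1) rfl).isZero_of_both_zeros ?_ ?_
    · haveI := hφ q (by omega)
      exact (cancel_epi ((DerivedCategory.homologyFunctor X.Modules q).map φ)).1 (by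
        refine Eq.trans ?_ comp_zero.symm
        refine ((DerivedCategory.homologyFunctor X.Modules q).map_comp _ _).symm.trans ?_
        exact (congrArg _ (comp_distTriang_mor_zero₁₂ _ hT)).trans (Functor.map_zero _ _ _))
    · haveI := hφ (q + 1) (by omega)
      exact (cancel_mono ((DerivedCategory.homologyFunctor X.Modules (q + 1)).map φ)).1
        ((DerivedCategory.HomologySequence.δ_comp _ hT q (q + 1) rfl).trans zero_comp.symm)
  obtain ⟨_, _⟩ := exists_isTriangulated_rpush f
  have hRT := (DCoh.Rpush f).map_distinguished _ hT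
  have hR : Function.Bijective (((DerivedCategory.homologyFunctor S.Modules m).map
      ((DCoh.Rpush f).map φ)).app V) :=
    bijective_of_exact (DerivedCategory.HomologySequence.exact₁ _ hRT (m - 1) m (by omega))
      (DerivedCategory.HomologySequence.exact₂ _ hRT m)
      (fun U hU => hd C (m - d - 1) ‹_› hC (m - 1) (by omega) U hU)
      (fun U hU => hd C (m - d - 1) ‹_› hC m (by omega) U hU) V le_rfl
  haveI := isIso_rpushUnit_of_bddBelow f F' (m - d - 1) fun n i hi => by
    by_cases h : m - d - 1 ≤ n
    · haveI := hι n h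
      exact (hac n i hi).of_iso ((Coh.Rpush f i).mapIso (asIso (ι.f n)))
    · haveI : Injective (F'.X n) := (F'.isZero_of_isStrictlyGE (m - d - 1) n (by omega)).injective
      obtain ⟨k, rfl⟩ := Nat.exists_eq_succ_of_ne_zero hi.ne'
      exact (Scheme.Modules.pushforward f).isZero_rightDerived_obj_injective_succ k (F'.X n)
  haveI : IsIso (homologyMap (((Scheme.Modules.pushforward f).mapHomologicalComplex
      (ComplexShape.up ℤ)).map ι) m) :=
    isIso_homologyMap_brutal _ (m - d - 1) (fun i hi =>
      have := hι i hi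
      inferInstanceAs (IsIso ((Scheme.Modules.pushforward f).map (ι.f i)))) m (by omega)
  haveI : IsIso ((DerivedCategory.homologyFunctor S.Modules m).map ((DCoh.pushKh f).map
      ((HomotopyCategory.quotient X.Modules (ComplexShape.up ℤ)).map ι))) :=
    isIso_Qh_map_homology (((Scheme.Modules.pushforward f).mapHomologicalComplex
      (ComplexShape.up ℤ)).map ι) m
  let G := DerivedCategory.homologyFunctor S.Modules m
  let q' := HomotopyCategory.quotient X.Modules (ComplexShape.up ℤ)
  have w : G.map ((rpushUnit f).app (q'.obj F)) = inv (G.map ((DCoh.pushKh f).map (q'.map ι))) ≫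
      G.map ((rpushUnit f).app (q'.obj F')) ≫ G.map ((DCoh.Rpush f).map φ) := by
    rw [IsIso.eq_inv_comp, ← G.map_comp, ← G.map_comp]
    exact congrArg G.map ((rpushUnit f).naturality (q'.map ι))
  change Function.Bijective ((G.map ((rpushUnit f).app (q'.obj F))).app V)
  rw [w]
  exact hR.comp ((bijective_of_isIso (G.map ((rpushUnit f).app (q'.obj F'))) V).comp
    (bijective_of_isIso (inv (G.map ((DCoh.pushKh f).map (q'.map ι)))) V))

end QRlimLib
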