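import Groth.Agent.QRlimLib.Push
import Groth.Agent.RlimPushLib.Main
import Groth.Agent.QCohLib.Local
import Groth.Prelude.Def_CohCx

/-!
# Unbounded objects with quasi-coherent cohomology
-/

set_option autoImplicit false

universe u

open CategoryTheory CategoryTheory.Limits AlgebraicGeometry TopologicalSpace Opposite Pretriangulated
open QCohLib (toAbF)
open DerivedCategory.TStructure (t)

attribute [local instance] HasDerivedCategory.standard

namespace QRlimLib

variable {X : Scheme.{u}}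

section Sections

theorem exists_local_lift_exact {S : ShortComplex X.Modules} (hS : S.Exact) (W : X.Opens)
    (z : Γ(S.X₂, W)) (hz : S.g.app W z = 0) (p : X) (hp : p ∈ W) :
    ∃ (W' : X.Opens) (h : W' ≤ W) (y : Γ(S.X₁, W')),
      p ∈ W' ∧ S.f.app W' y = S.X₂.presheaf.map (homOfLE h).op z := by
  haveI : Epi (kernel.lift S.g S.f S.zero) := (ShortComplex.exact_iff_epi_kernel_lift _).mp hS
  obtain ⟨k, hk⟩ := QCohLib.exists_of_app_eq_zero
    (S := ShortComplex.mk (kernel.ι S.g) S.g (kernel.condition _))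
    (ShortComplex.exact_of_f_is_kernel _ (kernelIsKernel _)) inferInstance z hz
  obtain ⟨W', h, y, hp', hy⟩ := RpushLib.exists_local_lift (kernel.lift S.g S.f S.zero) k hp
  refine ⟨W', h, y, hp', ?_⟩
  refine (congrArg (fun ψ => ψ.app W' y) (kernel.lift_ι S.g S.f S.zero)).symm.trans ?_
  refine (congrArg ((kernel.ι S.g).app W') hy).trans ?_
  exact (QCohLib.app_map (kernel.ι S.g) (homOfLE h) k).trans (congrArg _ hk)

/-- If `A` and `D` vanish on `V` in an exact `A → B → C → D`, then `B → C` is bijective on `V`. -/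
theorem bijective_of_exact {A B C D : X.Modules} {f : A ⟶ B} {g : B ⟶ C} {h : C ⟶ D}
    {w₁ : f ≫ g = 0} {w₂ : g ≫ h = 0} (e₁ : (ShortComplex.mk f g w₁).Exact)
    (e₂ : (ShortComplex.mk g h w₂).Exact) {V : X.Opens}
    (hA : ∀ U : X.Opens, U ≤ V → Subsingleton Γ(A, U))
    (hD : ∀ U : X.Opens, U ≤ V → Subsingleton Γ(D, U)) (U : X.Opens) (hU : U ≤ V) :
    Function.Bijective (g.app U) := by
  have inj : ∀ W : X.Opens, W ≤ V → Function.Injective (g.app W) := by
    intro W hW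
    refine (injective_iff_map_eq_zero _).2 fun x hx => ?_
    refine TopCat.Presheaf.section_ext ((toAbF X).obj B : TopCat.Sheaf AddCommGrpCat _) W x 0
      fun p hp => ?_
    obtain ⟨W', h', y, hp', hy⟩ := exists_local_lift_exact e₁ W x hx p hp
    have hy0 : y = 0 := (hA W' (h'.trans hW)).elim _ _
    rw [hy0, map_zero] at hy
    exact TopCat.Presheaf.germ_ext _ W' hp' (homOfLE h') (homOfLE h') (hy.symm.trans (map_zero _).symm)
  refine ⟨inj U hU, fun z => ?_⟩
  choose W hWU x hpW hx using fun p : U =>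
    exists_local_lift_exact e₂ U z ((hD U hU).elim _ _) p.1 p.2
  obtain ⟨s, hs, -⟩ := TopCat.Sheaf.existsUnique_gluing'
    ((toAbF X).obj B : TopCat.Sheaf AddCommGrpCat _) W U (fun p => homOfLE (hWU p))
    (fun p hp => Opens.mem_iSup.2 ⟨⟨p, hp⟩, hpW ⟨p, hp⟩⟩) x
    (fun p q => inj (W p ⊓ W q) ((inf_le_left.trans (hWU p)).trans hU) (by
      refine (QCohLib.app_map g _ (x p)).trans ?_
      refine Eq.trans ?_ (QCohLib.app_map g _ (x q)).symm
      refine (congrArg _ (hx p)).trans (Eq.trans ?_ (congrArg _ (hx q)).symm)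
      exact (QCohLib.map_map' C (Opens.infLELeft (W p) (W q)) (homOfLE (hWU p)) z).trans
        (QCohLib.map_map' C (Opens.infLERight (W p) (W q)) (homOfLE (hWU q)) z).symm))
  refine ⟨s, TopCat.Sheaf.eq_of_locally_eq' ((toAbF X).obj C : TopCat.Sheaf AddCommGrpCat _) W U
    (fun p => homOfLE (hWU p)) (fun p hp => Opens.mem_iSup.2 ⟨⟨p, hp⟩, hpW ⟨p, hp⟩⟩) _ _ fun p => ?_⟩
  exact (QCohLib.app_map g _ s).symm.trans ((congrArg (g.app (W p)) (hs p)).trans (hx p))

theorem bijective_of_isIso {M N : X.Modules} (φ : M ⟶ N) [IsIso φ] (U : X.Opens) :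
    Function.Bijective (φ.app U) :=
  Function.bijective_iff_has_inverse.2 ⟨(inv φ).app U,
    fun x => congrArg (fun ψ => ψ.app U x) (IsIso.hom_inv_id φ),
    fun x => congrArg (fun ψ => ψ.app U x) (IsIso.inv_hom_id φ)⟩

theorem isZero_of_sections {M : X.Modules} {ι : Type*} (V : ι → X.Opens) (hV : ⨆ i, V i = ⊤)
    (h : ∀ i, ∀ U : X.Opens, U ≤ V i → Subsingleton Γ(M, U)) : IsZero M := by
  rw [IsZero.iff_id_eq_zero]
  have hB : Opens.IsBasis {U : X.Opens | ∃ i, U ≤ V i} := by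
    refine Opens.isBasis_iff_nbhd.2 fun {U p} hp => ?_
    obtain ⟨i, hi⟩ := Opens.mem_iSup.1 (show p ∈ ⨆ i, V i by rw [hV]; trivial)
    exact ⟨U ⊓ V i, ⟨i, inf_le_right⟩, ⟨hp, hi⟩, inf_le_left⟩
  haveI : IsIso (0 : M ⟶ M) := RpushLib.isIso_of_bijective_basis _ hB fun U ⟨i, hi⟩ =>
    ⟨fun a b _ => (h i U hi).elim a b, fun a => ⟨a, (h i U hi).elim _ _⟩⟩
  exact (cancel_epi (0 : M ⟶ M)).1 (by simp)

theorem isQCoh_of_bijective {M : X.Modules} {ι : Type u} (V : ι → X.Opens) (hV : ⨆ i, V i = ⊤)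
    (h : ∀ i, ∃ (N : X.Modules) (φ : M ⟶ N), Coh.IsQCoh N ∧
      ∀ U : X.Opens, U ≤ V i → Function.Bijective (φ.app U)) : Coh.IsQCoh M := by
  refine QCohLib.isQCoh_of_cover M V hV fun i => ?_
  obtain ⟨N, φ, hN, hb⟩ := h i
  haveI := hN
  haveI : IsIso ((Scheme.Modules.restrictFunctor (V i).ι).map φ) :=
    QCohLib.isIso_of_bijective_affine _ fun U _ => hb ((V i).ι ''ᵁ U) ((V i).ι_image_le U)
  exact @QCohLib.isQCoh_of_iso _ _ _
    (asIso ((Scheme.Modules.restrictFunctor (V i).ι).map φ)).symm inferInstance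

end Sections

section Tower

variable (E : DCoh.D X)

theorem hasProduct_of_isGE (K : ℕ → DCoh.D X) : HasProduct K := by
  choose I hI e using fun n => Groth.Agent.DerLib.KInjUse.exists_iso_Q_kInjective (K n)
  exact Groth.Agent.DerLib.KInjUse.hasProduct_of_kInjective K I hI e

theorem isIso_HD_toTrunc (n : ℕ) (m : ℤ) (hm : -(n : ℤ) ≤ m) :
    IsIso ((DerivedCategory.homologyFunctor X.Modules m).map (CohCx.toTruncTower E n)) :=
  Groth.Agent.DerLib.Ghost.isIso_homologyMap_truncGEπ E _ m hm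

theorem isIso_HD_truncMap (n : ℕ) (m : ℤ) (hm : -(n : ℤ) ≤ m) :
    IsIso ((DerivedCategory.homologyFunctor X.Modules m).map (CohCx.truncTowerMap E n)) := by
  haveI := isIso_HD_toTrunc E n m hm
  haveI := isIso_HD_toTrunc E (n + 1) m (by omega)
  refine IsIso.of_isIso_fac_left (f := (DerivedCategory.homologyFunctor X.Modules m).map
    (CohCx.toTruncTower E (n + 1))) (h := (DerivedCategory.homologyFunctor X.Modules m).map
      (CohCx.toTruncTower E n)) ?_
  rw [← Functor.map_comp, t.π_natTransTruncGEOfLE_app]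

theorem isQCohD_trunc {E : DCoh.D X} (hE : DCoh.IsQCohD E) (n : ℕ) :
    DCoh.IsQCohD (CohCx.truncTower E n) := fun m => by
  by_cases hm : -(n : ℤ) ≤ m
  · haveI := isIso_HD_toTrunc E n m hm
    exact @QCohLib.isQCoh_of_iso _ _ _
      (asIso ((DerivedCategory.homologyFunctor X.Modules m).map (CohCx.toTruncTower E n))) (hE m)
  · exact KFlatLib.isQCoh_zero (DerivedCategory.isZero_of_isGE _ (-(n : ℤ)) m (by omega))

theorem isLE_trunc (n : ℕ) (b : ℤ) (hb : -(n : ℤ) ≤ b) [E.IsLE b] :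
    (CohCx.truncTower E n).IsLE b := by
  rw [DerivedCategory.isLE_iff]
  intro i hi
  haveI := isIso_HD_toTrunc E n i (by omega)
  exact (DerivedCategory.isZero_of_isLE E b i hi).of_iso
    (asIso ((DerivedCategory.homologyFunctor X.Modules i).map (CohCx.toTruncTower E n))).symm

theorem stableOn_trunc (V : X.Opens) (m : ℤ) (N : ℕ) (hN : -(N : ℤ) ≤ m) :
    StableOn (CohCx.truncTower E) (CohCx.truncTowerMap E) V m N := fun n hn U _ => by
  haveI := isIso_HD_truncMap E n m (by omega)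
  exact bijective_of_isIso _ U

variable {E}

/-- An object with quasi-coherent cohomology is the derived limit of its truncations. -/
theorem exists_isRlimVia (hE : DCoh.IsQCohD E) [HasProduct (CohCx.truncTower E)] :
    CohCx.IsRlimVia (CohCx.truncTower E) (CohCx.truncTowerMap E) E (CohCx.toTruncTower E) := by
  let K := CohCx.truncTower E
  obtain ⟨C, g, h, hT⟩ := Pretriangulated.distinguished_cocone_triangle (oneSub K (CohCx.truncTowerMap E))
  obtain ⟨L, a, c, hL⟩ : ∃ (L : DCoh.D X) (a : L ⟶ ∏ᶜ K) (c : ∏ᶜ K ⟶ L⟦(1 : ℤ)⟧),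
      Triangle.mk a (oneSub K (CohCx.truncTowerMap E)) c ∈ distinguishedTriangles :=
    ⟨_, _, _, inv_rot_of_distTriang _ hT⟩
  have hlift : Pi.lift (CohCx.toTruncTower E) ≫ oneSub K (CohCx.truncTowerMap E) = 0 := by
    refine Pi.hom_ext _ _ fun n => ?_
    rw [Category.assoc, Pi.lift_π, Preadditive.comp_sub, ← Category.assoc, Pi.lift_π, Pi.lift_π,
      t.π_natTransTruncGEOfLE_app, sub_self, zero_comp]
  obtain ⟨φ, hφ⟩ : ∃ φ : E ⟶ L, Pi.lift (CohCx.toTruncTower E) = φ ≫ a :=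
    Triangle.coyoneda_exact₂ _ hL (Pi.lift (CohCx.toTruncTower E)) hlift
  have hprod : ∀ m, IsIso (piComparison (DerivedCategory.homologyFunctor X.Modules m) K) :=
    fun m => isIso_prodComparison K (fun n => -(n : ℤ)) (fun n => inferInstance) (isQCohD_trunc hE) m
  haveI hφi : IsIso φ := by
    rw [DerivedCategory.isIso_iff]
    intro m
    let G := DerivedCategory.homologyFunctor X.Modules m
    let n : ℕ := (1 - m).toNat
    haveI hG : IsIso (G.map (a ≫ Pi.π K n)) := QCohLib.isIso_of_bijective_affine _ fun U _ =>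
      bijective_rlim K (CohCx.truncTowerMap E) hprod a c hL m ⊤ n
        (stableOn_trunc E ⊤ (m - 1) n (by omega)) (stableOn_trunc E ⊤ m n (by omega)) U le_top n le_rfl
    haveI := isIso_HD_toTrunc E n m (by omega)
    have e : G.map φ ≫ G.map (a ≫ Pi.π K n) = G.map (CohCx.toTruncTower E n) := by
      rw [← G.map_comp, ← Category.assoc]
      exact congrArg G.map ((congrArg (· ≫ Pi.π K n) hφ.symm).trans (Pi.lift_π _ _))
    haveI : IsIso (G.map φ ≫ G.map (a ≫ Pi.π K n)) := by rw [e]; infer_instance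
    exact @IsIso.of_isIso_comp_right _ _ _ _ _ (G.map φ) (G.map (a ≫ Pi.π K n)) hG this
  refine ⟨c ≫ (inv φ)⟦(1 : ℤ)⟧', Pretriangulated.isomorphic_distinguished _ hL _ ?_⟩
  exact Triangle.isoMk _ _ (@asIso _ _ _ _ φ hφi) (Iso.refl _) (Iso.refl _)
    ((Category.comp_id _).trans hφ) ((Category.comp_id _).trans (Category.id_comp _).symm) (by
      change (c ≫ (inv φ)⟦(1 : ℤ)⟧') ≫ φ⟦(1 : ℤ)⟧' = 𝟙 _ ≫ c
      rw [Category.assoc, ← Functor.map_comp, IsIso.inv_hom_id, CategoryTheory.Functor.map_id, Category.comp_id,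
        Category.id_comp])

end Tower

section Pushforward

variable {S : Scheme.{u}} (f : X ⟶ S) [QuasiCompact f] [QuasiSeparated f] [DCoh.HasRpush f]
  {E : DCoh.D X}

omit [QuasiCompact f] [QuasiSeparated f] in
theorem exists_isTriangulated_rpush :
    ∃ _ : (DCoh.Rpush f).CommShift ℤ, (DCoh.Rpush f).IsTriangulated :=
  Groth.Agent.DerLib.KInjDerived.exists_isTriangulated_map KFlatLib.enoughKInj_modules
    (Scheme.Modules.pushforward f) (DCoh.Rpush f)
    ((DCoh.pushKh f).totalRightDerivedUnit DerivedCategory.Qh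
      (HomotopyCategory.quasiIso X.Modules (ComplexShape.up ℤ)))

/-- Stability of the direct images of the truncations. -/
theorem stableOn_rpush_trunc (hE : DCoh.IsQCohD E) {V : S.Opens} {d : ℕ}
    (hd : ∀ (E : DCoh.D X) (a b : ℤ), E.IsGE a → E.IsLE b →
      DCoh.IsQCohD E → ∀ m : ℤ, b + (d : ℤ) ≤ m → ZeroOn ((DCoh.Rpush f).obj E) V m)
    (m : ℤ) (N : ℕ) (hN : (d : ℤ) - (N : ℤ) - 1 ≤ m) :
    StableOn (fun n => (DCoh.Rpush f).obj (CohCx.truncTower E n))
      (fun n => (DCoh.Rpush f).map (CohCx.truncTowerMap E n)) V m N := by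
  intro n hn U hU
  obtain ⟨F, i, δ', hT⟩ : ∃ (F : DCoh.D X) (i : F ⟶ CohCx.truncTower E (n + 1))
      (δ' : CohCx.truncTower E n ⟶ F⟦(1 : ℤ)⟧),
      Triangle.mk i (CohCx.truncTowerMap E n) δ' ∈ distinguishedTriangles := by
    obtain ⟨C, g, h, hT⟩ := Pretriangulated.distinguished_cocone_triangle (CohCx.truncTowerMap E n)
    exact ⟨_, _, _, inv_rot_of_distTriang _ hT⟩
  have hz : ∀ q : ℤ, q ≠ -(n : ℤ) - 1 → IsZero (DCoh.HD F q) := by
    intro q hq
    rcases lt_or_gt_of_ne hq with h | h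
    · refine (DerivedCategory.HomologySequence.exact₁ _ hT (q - 1) q (by omega)).isZero_of_both_zeros
        ?_ ?_
      · exact (DerivedCategory.isZero_of_isGE (CohCx.truncTower E n) (-(n : ℤ)) (q - 1)
          (by omega)).eq_of_src _ _
      · exact (DerivedCategory.isZero_of_isGE (CohCx.truncTower E (n + 1)) (-((n + 1 : ℕ) : ℤ)) q
          (by omega)).eq_of_tgt _ _
    · refine (DerivedCategory.HomologySequence.exact₁ _ hT (q - 1) q (by omega)).isZero_of_both_zeros
        ?_ ?_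
      · by_cases hq1 : -(n : ℤ) ≤ q - 1
        · haveI := isIso_HD_truncMap E n (q - 1) hq1
          have := DerivedCategory.HomologySequence.comp_δ _ hT (q - 1) q (by omega)
          exact (cancel_epi ((DerivedCategory.homologyFunctor X.Modules (q - 1)).map
            (CohCx.truncTowerMap E n))).1 (this.trans comp_zero.symm)
        · exact (DerivedCategory.isZero_of_isGE (CohCx.truncTower E n) (-(n : ℤ)) (q - 1)
            (by omega)).eq_of_src _ _
      · haveI := isIso_HD_truncMap E n q (by omega)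
        exact (cancel_mono ((DerivedCategory.homologyFunctor X.Modules q).map
          (CohCx.truncTowerMap E n))).1 (by
            refine Eq.trans ?_ zero_comp.symm
            refine ((DerivedCategory.homologyFunctor X.Modules q).map_comp _ _).symm.trans ?_
            exact (congrArg _ (comp_distTriang_mor_zero₁₂ _ hT)).trans (Functor.map_zero _ _ _))
  haveI : F.IsGE (-(n : ℤ) - 1) := by
    rw [DerivedCategory.isGE_iff]
    exact fun q hq => hz q (by omega)
  haveI : F.IsLE (-(n : ℤ) - 1) := by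
    rw [DerivedCategory.isLE_iff]
    exact fun q hq => hz q (by omega)
  have hq : DCoh.IsQCohD F :=
    KFlatLib.isQCohD₂ (T := (Triangle.mk i (CohCx.truncTowerMap E n) δ').invRotate)
      (inv_rot_of_distTriang _ hT)
      (KFlatLib.isQCohD_shift (isQCohD_trunc hE n) (-1)) (isQCohD_trunc hE (n + 1))
  obtain ⟨_, _⟩ := exists_isTriangulated_rpush f
  have hRT := (DCoh.Rpush f).map_distinguished _ hT
  exact bijective_of_exact (DerivedCategory.HomologySequence.exact₂ _ hRT m)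
    (DerivedCategory.HomologySequence.exact₃ _ hRT m (m + 1) rfl)
    (fun W hW => hd F _ _ ‹_› ‹_› hq m (by omega) W hW)
    (fun W hW => hd F _ _ ‹_› ‹_› hq (m + 1) (by omega) W hW) U hU

theorem exists_comparison (hE : DCoh.IsQCohD E) :
    ∀ V : S.Opens, IsAffineOpen V → ∃ d : ℕ,
      (∀ (E : DCoh.D X) (a b : ℤ), E.IsGE a → E.IsLE b →
        DCoh.IsQCohD E → ∀ m : ℤ, b + (d : ℤ) ≤ m → ZeroOn ((DCoh.Rpush f).obj E) V m) ∧
      ∀ (m : ℤ) (n : ℕ), (d : ℤ) - (n : ℤ) ≤ m →
        ∃ φ : DCoh.HD ((DCoh.Rpush f).obj E) m ⟶ DCoh.HD ((DCoh.Rpush f).obj (CohCx.truncTower E n)) m,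
          ∀ U : S.Opens, U ≤ V → Function.Bijective (φ.app U) := by
  intro V hV
  obtain ⟨d, hd⟩ := exists_bound_bddBelow f hV
  refine ⟨d, hd, fun m n hn => ?_⟩
  haveI := hasProduct_of_isGE (CohCx.truncTower E)
  haveI := hasProduct_of_isGE (fun n => (DCoh.Rpush f).obj (CohCx.truncTower E n))
  obtain ⟨c, hc⟩ := exists_isRlimVia hE
  obtain ⟨a', c', hT⟩ := RlimPushLib.isRlim_rpush f _ _ E ⟨_, c, hc⟩
  refine ⟨_, fun U hU => bijective_rlim (fun k : ℕ => (DCoh.Rpush f).obj (CohCx.truncTower E k))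
    (fun n => (DCoh.Rpush f).map (CohCx.truncTowerMap E n)) (fun q => ?_) a' c' hT m V n
    (stableOn_rpush_trunc f hE hd (m - 1) n (by omega))
    (stableOn_rpush_trunc f hE hd m n (by omega)) U hU n le_rfl⟩
  exact isIso_prodComparison (fun k : ℕ => (DCoh.Rpush f).obj (CohCx.truncTower E k))
    (fun k : ℕ => -(k : ℤ)) (fun k : ℕ => rpush_isGE f (CohCx.truncTower E k) _)
    (fun k : ℕ => isQCohD_rpush_bdd f (-(k : ℤ)) _ (isQCohD_trunc hE k)) q

/-- `Rf_*` preserves quasi-coherence of cohomology. -/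
theorem isQCohD_rpush (hE : DCoh.IsQCohD E) : DCoh.IsQCohD ((DCoh.Rpush f).obj E) := by
  intro m
  refine isQCoh_of_bijective (fun V : S.affineOpens => V.1) (iSup_affineOpens_eq_top S) fun V => ?_
  obtain ⟨d, -, hd⟩ := exists_comparison f hE V.1 V.2
  obtain ⟨φ, hφ⟩ := hd m ((d : ℤ) - m).toNat (by omega)
  exact ⟨_, φ, isQCohD_rpush_bdd f (-((((d : ℤ) - m).toNat : ℕ) : ℤ)) _ (isQCohD_trunc hE _) m, hφ⟩

/-- Uniform bound on the amplitude of `Rf_*` over an affine open. -/
theorem exists_bound {V : S.Opens} (hV : IsAffineOpen V) : ∃ d : ℕ, ∀ (E : DCoh.D X) (b : ℤ),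
    E.IsLE b → DCoh.IsQCohD E → ∀ m : ℤ, b + (d : ℤ) ≤ m → ZeroOn ((DCoh.Rpush f).obj E) V m := by
  obtain ⟨d, hd⟩ := exists_bound_bddBelow f hV
  refine ⟨d, fun E b hb hE m hm U hU => ?_⟩
  obtain ⟨d', hd₁, hd₂⟩ := exists_comparison f hE V hV
  let n : ℕ := max ((d' : ℤ) - m).toNat (-b).toNat
  obtain ⟨φ, hφ⟩ := hd₂ m n (by omega)
  haveI := hb
  have := hd (CohCx.truncTower E n) (-(n : ℤ)) b inferInstance (isLE_trunc E n b (by omega))
    (isQCohD_trunc hE n) m hm U hU
  exact (hφ U hU).1.subsingleton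

theorem exists_uniform_bound [CompactSpace ↥S] : ∃ N : ℤ, ∀ (E : DCoh.D X), DCoh.IsQCohD E →
    ∀ b : ℤ, E.IsLE b → ∀ m : ℤ, b + N ≤ m → IsZero (DCoh.HD ((DCoh.Rpush f).obj E) m) := by
  classical
  obtain ⟨s, hs⟩ := isCompact_univ.elim_finite_subcover (fun V : S.affineOpens => (V.1 : Set S))
    (fun V => V.1.isOpen) (fun p _ => by
      obtain ⟨V, hV, hp, -⟩ := Opens.isBasis_iff_nbhd.mp S.isBasis_affineOpens (U := ⊤) (x := p) trivial
      exact Set.mem_iUnion.mpr ⟨⟨V, hV⟩, hp⟩)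
  choose d hd using fun V : S.affineOpens => exists_bound f V.2
  refine ⟨(s.sup d : ℕ), fun E hE b hb m hm => isZero_of_sections (fun V : s => V.1.1) ?_ fun V U hU => ?_⟩
  · rw [eq_top_iff]
    intro p _
    obtain ⟨V, hV, hp⟩ := Set.mem_iUnion₂.mp (hs (Set.mem_univ p))
    exact Opens.mem_iSup.2 ⟨⟨V, hV⟩, hp⟩
  · exact hd V.1 E b hb hE m (by have := Finset.le_sup (f := d) V.2; omega) U hU

end Pushforward

end QRlimLib
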