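import Groth.Agent.QRlimLib.Push

/-!
# Amplitude of derived functors on bounded objects with quasi-coherent cohomology
-/

set_option autoImplicit false
set_option linter.style.haveILetI false

universe u w v

open CategoryTheory CategoryTheory.Limits AlgebraicGeometry Pretriangulated DerivedCategory.TStructure

attribute [local instance] HasDerivedCategory.standard

namespace QRlimLib

variable {X : Scheme.{u}} {B : Type w} [Category.{v} B] [Abelian B]

/-- Vanishing on quasi-coherent modules gives vanishing on bounded objects. -/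
theorem isZero_homology_of_qcoh_single (Φ : DCoh.D X ⥤ DerivedCategory B) [Φ.CommShift ℤ]
    [Φ.IsTriangulated] (N : ℤ)
    (hs : ∀ (M : X.Modules), Coh.IsQCoh M → ∀ i : ℤ, N ≤ i → IsZero ((DerivedCategory.homologyFunctor B i).obj
      (Φ.obj ((DerivedCategory.singleFunctor X.Modules 0).obj M))))
    (a : ℤ) (k : ℕ) (K : DCoh.D X) [K.IsGE a] [K.IsLE (a + k)] (hK : DCoh.IsQCohD K) (i : ℤ)
    (hi : a + k + N ≤ i) : IsZero ((DerivedCategory.homologyFunctor B i).obj (Φ.obj K)) := by
  have hq : ∀ (M : X.Modules), Coh.IsQCoh M → ∀ q i : ℤ, q + N ≤ i →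
      IsZero ((DerivedCategory.homologyFunctor B i).obj
        (Φ.obj ((DerivedCategory.singleFunctor X.Modules q).obj M))) := by
    intro M hM q i hi
    have e := ((DerivedCategory.homologyFunctor B i).mapIso (Φ.mapIso
      (((DerivedCategory.singleFunctors X.Modules).shiftIso (-q) q 0 (by omega)).app M).symm ≪≫
      (Φ.commShiftIso (-q)).app _)) ≪≫
      ((DerivedCategory.homologyFunctor B 0).shiftIso (-q) i (i - q) (by omega)).app _
    exact (hs M hM (i - q) (by omega)).of_iso e
  induction k generalizing K i with
  | zero =>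
    have : K.IsLE a := t.isLE_of_le K (a + ((0 : ℕ) : ℤ)) a (by omega)
    obtain ⟨e⟩ := Groth.Agent.DerLib.Devissage.nonempty_iso_single K a
    exact (hq _ (hK a) a i (by simpa using hi)).of_iso
      ((DerivedCategory.homologyFunctor B i).mapIso (Φ.mapIso e))
  | succ k ih =>
    let b : ℤ := a + k
    have : K.IsLE (b + 1) := t.isLE_of_le K (a + ((k + 1 : ℕ) : ℤ)) (b + 1) (by simp [b]; omega)
    have hT := t.triangleLEGT_distinguished b K
    refine (DerivedCategory.HomologySequence.exact₂ _ (Φ.map_distinguished _ hT) i).isZero_of_both_zeros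
      (IsZero.eq_of_src ?_ _ _) (IsZero.eq_of_tgt ?_ _ _)
    · change IsZero ((DerivedCategory.homologyFunctor B i).obj (Φ.obj ((t.truncLE b).obj K)))
      have : ((t.truncLE b).obj K).IsGE a := by
        rw [DerivedCategory.isGE_iff]
        intro j hj
        have := Groth.Agent.DerLib.Devissage.isIso_homology_truncLEι K b j (by omega)
        exact (DerivedCategory.isZero_of_isGE K a j hj).of_iso
          (asIso ((DerivedCategory.homologyFunctor X.Modules j).map ((t.truncLEι b).app K)))
      have : ((t.truncLE b).obj K).IsLE (a + k) := t.isLE_of_le _ b (a + k) le_rfl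
      refine ih _ (fun q => ?_) i (by push_cast at hi; omega)
      by_cases hq : q ≤ b
      · have := Groth.Agent.DerLib.Devissage.isIso_homology_truncLEι K b q hq
        exact @QCohLib.isQCoh_of_iso _ _ _
          (asIso ((DerivedCategory.homologyFunctor X.Modules q).map ((t.truncLEι b).app K))).symm (hK q)
      · exact KFlatLib.isQCoh_zero (DerivedCategory.isZero_of_isLE _ b q (by omega))
    · change IsZero ((DerivedCategory.homologyFunctor B i).obj (Φ.obj ((t.truncGT b).obj K)))
      have : ((t.truncGT b).obj K).IsLE (b + 1) := by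
        rw [DerivedCategory.isLE_iff]
        intro j hj
        have := Groth.Agent.DerLib.Devissage.isIso_homology_truncGTπ K b j (by omega)
        exact (DerivedCategory.isZero_of_isLE K (b + 1) j hj).of_iso
          (asIso ((DerivedCategory.homologyFunctor X.Modules j).map ((t.truncGTπ b).app K))).symm
      obtain ⟨e⟩ := Groth.Agent.DerLib.Devissage.nonempty_iso_single ((t.truncGT b).obj K) (b + 1)
      have := Groth.Agent.DerLib.Devissage.isIso_homology_truncGTπ K b (b + 1) (by omega)
      exact (hq _ (@QCohLib.isQCoh_of_iso _ _ _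
        (asIso ((DerivedCategory.homologyFunctor X.Modules (b + 1)).map ((t.truncGTπ b).app K)))
        (hK (b + 1))) (b + 1) i (by push_cast at hi; simp only [b]; omega)).of_iso
        ((DerivedCategory.homologyFunctor B i).mapIso (Φ.mapIso e))

/-- The value of a right derived functor on a module in degree `0`. -/
theorem isZero_rightDerived_single [HasInjectiveResolutions X.Modules] [HasDerivedCategory B]
    (F : X.Modules ⥤ B) [F.Additive] (RF : DCoh.D X ⥤ DerivedCategory B)
    (α : F.mapHomotopyCategory (ComplexShape.up ℤ) ⋙ DerivedCategory.Qh ⟶ DerivedCategory.Qh ⋙ RF)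
    [RF.IsRightDerivedFunctor α (HomotopyCategory.quasiIso X.Modules (ComplexShape.up ℤ))]
    (M : X.Modules) (N : ℕ) (h : ∀ p : ℕ, N ≤ p → IsZero ((F.rightDerived p).obj M)) (i : ℤ)
    (hi : (N : ℤ) ≤ i) : IsZero ((DerivedCategory.homologyFunctor B i).obj
      (RF.obj ((DerivedCategory.singleFunctor X.Modules 0).obj M))) := by
  haveI : EnoughInjectives X.Modules := IsGrothendieckAbelian.enoughInjectives.{u}
  let R := injectiveResolution M
  haveI : R.cochainComplex.IsKInjective := CochainComplex.isKInjective_of_injective _ 0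
  haveI := Groth.Agent.DerLib.KInjDerived.isIso_app RF α KFlatLib.enoughKInj_modules R.cochainComplex
  let e : RF.obj ((DerivedCategory.singleFunctor X.Modules 0).obj M) ≅
      DerivedCategory.Q.obj ((F.mapHomologicalComplex (ComplexShape.up ℤ)).obj R.cochainComplex) :=
    RF.mapIso (((DerivedCategory.singleFunctorIsoCompQ X.Modules 0).app M) ≪≫
      asIso (DerivedCategory.Q.map R.ι') ≪≫
      ((DerivedCategory.quotientCompQhIso X.Modules).app R.cochainComplex).symm) ≪≫
    (asIso (α.app ((HomotopyCategory.quotient X.Modules (ComplexShape.up ℤ)).obj R.cochainComplex))).symm ≪≫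
    DerivedCategory.Qh.mapIso ((F.mapHomotopyCategoryFactors (ComplexShape.up ℤ)).app R.cochainComplex) ≪≫
    (DerivedCategory.quotientCompQhIso B).app _
  refine IsZero.of_iso ?_ ((DerivedCategory.homologyFunctor B i).mapIso e ≪≫
    (DerivedCategory.homologyFunctorFactors B i).app _)
  obtain ⟨k, rfl⟩ := Int.eq_ofNat_of_zero_le (show 0 ≤ i by omega)
  exact (h k (by omega)).of_iso
    ((HomologicalComplex.homologyFunctor B (ComplexShape.up ℤ) (k : ℤ)).mapIso
      (SpSeqLib.mapExtendNatIso F R.cocomplex) ≪≫
    HomologicalComplex.extendHomologyIso _ ComplexShape.embeddingUpNat (j := k) (by simp) ≪≫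
    (R.isoRightDerivedObj F k).symm)

end QRlimLib
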