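import Groth.Agent.QRlimLib.Prod
import Groth.Agent.DerLib.Ghost

/-!
# Derived limits of eventually stable towers
-/

set_option autoImplicit false

universe u v

open CategoryTheory CategoryTheory.Limits AlgebraicGeometry TopologicalSpace Opposite Pretriangulated

attribute [local instance] HasDerivedCategory.standard

namespace QRlimLib

section Seq

/-- `1 - shift` is surjective when the transition maps are eventually surjective. -/
theorem exists_sub_eq : ∀ (N : ℕ) (A : ℕ → Type v) [∀ n, AddCommGroup (A n)]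
    (τ : ∀ n, A (n + 1) →+ A n), (∀ n, N ≤ n → Function.Surjective (τ n)) → ∀ b : ∀ n, A n,
    ∃ a : ∀ n, A n, ∀ n, a n - τ n (a (n + 1)) = b n := by
  intro N
  induction N with
  | zero =>
    intro A _ τ h b
    choose g hg using fun n => h n (Nat.zero_le n)
    let a : ∀ n, A n := fun n =>
      Nat.rec (motive := A) 0 (fun n an => g n (an - b n)) n
    refine ⟨a, fun n => ?_⟩
    change a n - τ n (g n (a n - b n)) = b n
    rw [hg, sub_sub_cancel]
  | succ N ih =>
    intro A _ τ h b
    obtain ⟨a, ha⟩ := ih (fun n => A (n + 1)) (fun n => τ (n + 1))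
      (fun n hn => h (n + 1) (by omega)) (fun n => b (n + 1))
    refine ⟨fun n => Nat.casesOn (motive := A) n (b 0 + τ 0 (a 0)) a, fun n => ?_⟩
    cases n with
    | zero => exact add_sub_cancel_right _ _
    | succ n => exact ha n

/-- Extending an element to a compatible family. -/
theorem exists_compatible : ∀ (N : ℕ) (A : ℕ → Type v) [∀ n, AddCommGroup (A n)]
    (τ : ∀ n, A (n + 1) →+ A n), (∀ n, N ≤ n → Function.Bijective (τ n)) → ∀ y : A N,
    ∃ a : ∀ n, A n, (∀ n, a n - τ n (a (n + 1)) = 0) ∧ a N = y := by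
  intro N
  induction N with
  | zero =>
    intro A _ τ h y
    choose g hg using fun n => (h n (Nat.zero_le n)).2
    let a : ∀ n, A n := fun n => Nat.rec (motive := A) y (fun n an => g n an) n
    refine ⟨a, fun n => ?_, rfl⟩
    change a n - τ n (g n (a n)) = 0
    rw [hg, sub_self]
  | succ N ih =>
    intro A _ τ h y
    obtain ⟨a, ha, hy⟩ := ih (fun n => A (n + 1)) (fun n => τ (n + 1))
      (fun n hn => h (n + 1) (by omega)) y
    refine ⟨fun n => Nat.casesOn (motive := A) n (τ 0 (a 0)) a, fun n => ?_, hy⟩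
    cases n with
    | zero => exact sub_self _
    | succ n => exact ha n

/-- A compatible family is determined by a component in the stable range. -/
theorem eq_zero_of_compatible : ∀ (N : ℕ) (A : ℕ → Type v) [∀ n, AddCommGroup (A n)]
    (τ : ∀ n, A (n + 1) →+ A n), (∀ n, N ≤ n → Function.Injective (τ n)) → ∀ a : ∀ n, A n,
    (∀ n, a n - τ n (a (n + 1)) = 0) → a N = 0 → ∀ n, a n = 0 := by
  intro N A _ τ h a ha hN
  have hle : ∀ k n, n + k = N → a n = 0 := by
    intro k
    induction k with
    | zero => rintro n rfl; exact hN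
    | succ k ih =>
      intro n hn
      have e := sub_eq_zero.1 (ha n)
      rw [ih (n + 1) (by omega), map_zero] at e
      exact e
  have hge : ∀ k, a (N + k) = 0 := by
    intro k
    induction k with
    | zero => exact hN
    | succ k ih =>
      exact h (N + k) (by omega) (((sub_eq_zero.1 (ha (N + k))).symm.trans ih).trans (map_zero _).symm)
  intro n
  rcases le_total n N with hn | hn
  · exact hle (N - n) n (by omega)
  · obtain ⟨k, rfl⟩ := Nat.exists_eq_add_of_le hn
    exact hge k

end Seq

variable {X : Scheme.{u}}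

/-- The degree `m` cohomology of `t` is bijective on sections inside `V` beyond stage `N`. -/
def StableOn (K : ℕ → DCoh.D X) (t : ∀ n, K (n + 1) ⟶ K n) (V : X.Opens) (m : ℤ) (N : ℕ) : Prop :=
  ∀ n, N ≤ n → ∀ U : X.Opens, U ≤ V →
    Function.Bijective (((DerivedCategory.homologyFunctor X.Modules m).map (t n)).app U)

/-- `1 - shift` on the product of a tower. -/
noncomputable abbrev oneSub (K : ℕ → DCoh.D X) (t : ∀ n, K (n + 1) ⟶ K n) [HasProduct K] :
    ∏ᶜ K ⟶ ∏ᶜ K :=
  Pi.lift fun n => Pi.π K n - Pi.π K (n + 1) ≫ t n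

variable (K : ℕ → DCoh.D X) (t : ∀ n, K (n + 1) ⟶ K n) [HasProduct K]

theorem oneSub_app (m : ℤ) {U : X.Opens}
    (s : Γ((DerivedCategory.homologyFunctor X.Modules m).obj (∏ᶜ K), U)) (n : ℕ) :
    ((DerivedCategory.homologyFunctor X.Modules m).map (Pi.π K n)).app U
        (((DerivedCategory.homologyFunctor X.Modules m).map (oneSub K t)).app U s) =
      ((DerivedCategory.homologyFunctor X.Modules m).map (Pi.π K n)).app U s -
        ((DerivedCategory.homologyFunctor X.Modules m).map (t n)).app U
          (((DerivedCategory.homologyFunctor X.Modules m).map (Pi.π K (n + 1))).app U s) := by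
  let G := DerivedCategory.homologyFunctor X.Modules m
  have e : G.map (oneSub K t) ≫ G.map (Pi.π K n) =
      G.map (Pi.π K n) - G.map (Pi.π K (n + 1)) ≫ G.map (t n) := by
    rw [← G.map_comp, Pi.lift_π, G.map_sub, G.map_comp]
  exact congrArg (fun ψ => ψ.app U s) e

section Key

variable (hprod : ∀ m, IsIso (piComparison (DerivedCategory.homologyFunctor X.Modules m) K))

/-- Sections of cohomology of the product. -/
theorem sec_ext_prod {m : ℤ}
    (hm : IsIso (piComparison (DerivedCategory.homologyFunctor X.Modules m) K))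
    {U : X.Opens} {s s' : Γ((DerivedCategory.homologyFunctor X.Modules m).obj (∏ᶜ K), U)}
    (h : ∀ n, ((DerivedCategory.homologyFunctor X.Modules m).map (Pi.π K n)).app U s =
      ((DerivedCategory.homologyFunctor X.Modules m).map (Pi.π K n)).app U s') : s = s' := by
  let c : Fan (fun n => (DerivedCategory.homologyFunctor X.Modules m).obj (K n)) :=
    Fan.mk _ fun n => (DerivedCategory.homologyFunctor X.Modules m).map (Pi.π K n)
  haveI : IsIso ((productIsProduct fun n =>
      (DerivedCategory.homologyFunctor X.Modules m).obj (K n)).lift c) := hm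
  exact sec_ext (IsLimit.ofPointIso (productIsProduct _) : IsLimit c) h

theorem sec_lift_prod {m : ℤ}
    (hm : IsIso (piComparison (DerivedCategory.homologyFunctor X.Modules m) K))
    {U : X.Opens} (s : ∀ n, Γ((DerivedCategory.homologyFunctor X.Modules m).obj (K n), U)) :
    ∃ x : Γ((DerivedCategory.homologyFunctor X.Modules m).obj (∏ᶜ K), U),
      ∀ n, ((DerivedCategory.homologyFunctor X.Modules m).map (Pi.π K n)).app U x = s n := by
  let c : Fan (fun n => (DerivedCategory.homologyFunctor X.Modules m).obj (K n)) :=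
    Fan.mk _ fun n => (DerivedCategory.homologyFunctor X.Modules m).map (Pi.π K n)
  haveI : IsIso ((productIsProduct fun n =>
      (DerivedCategory.homologyFunctor X.Modules m).obj (K n)).lift c) := hm
  exact sec_lift (IsLimit.ofPointIso (productIsProduct _) : IsLimit c) s

include hprod in
/-- Cohomology of the derived limit of a tower stable on `V`. -/
theorem bijective_rlim {L : DCoh.D X} (a : L ⟶ ∏ᶜ K) (c : ∏ᶜ K ⟶ L⟦(1 : ℤ)⟧)
    (hT : Triangle.mk a (oneSub K t) c ∈ distinguishedTriangles) (m : ℤ) (V : X.Opens) (N : ℕ)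
    (h₀ : StableOn K t V (m - 1) N) (h₁ : StableOn K t V m N) (U : X.Opens) (hU : U ≤ V)
    (n : ℕ) (hn : N ≤ n) :
    Function.Bijective
      (((DerivedCategory.homologyFunctor X.Modules m).map (a ≫ Pi.π K n)).app U) := by
  let G := DerivedCategory.homologyFunctor X.Modules m
  let G' := DerivedCategory.homologyFunctor X.Modules (m - 1)
  let T := Triangle.mk a (oneSub K t) c
  let δ := DerivedCategory.HomologySequence.δ T (m - 1) m (by omega)
  have hδ : ∀ W : X.Opens, W ≤ V → ∀ y, δ.app W y = 0 := by
    intro W hW y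
    obtain ⟨r, hr⟩ := exists_sub_eq N (fun k => Γ(G'.obj (K k), W))
      (fun k => ((G'.map (t k)).app W).hom) (fun k hk => (h₀ k hk W hW).2)
      (fun k => (G'.map (Pi.π K k)).app W y)
    obtain ⟨x, hx⟩ := sec_lift_prod K (hprod (m - 1)) r
    have : y = (G'.map (oneSub K t)).app W x := sec_ext_prod K (hprod (m - 1)) fun k => by
      rw [oneSub_app]
      exact ((congrArg₂ (fun p q => p - (G'.map (t k)).app W q) (hx k) (hx (k + 1))).trans
        (hr k)).symm
    rw [this]
    exact congrArg (fun ψ => ψ.app W x)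
      (DerivedCategory.HomologySequence.comp_δ T hT (m - 1) m (by omega))
  have e₁ := DerivedCategory.HomologySequence.exact₁ T hT (m - 1) m (by omega)
  have e₂ := DerivedCategory.HomologySequence.exact₂ T hT m
  have local_lift : ∀ {S : ShortComplex X.Modules}, S.Exact → ∀ (W : X.Opens) (z : Γ(S.X₂, W)),
      S.g.app W z = 0 → ∀ p ∈ W, ∃ (W' : X.Opens) (h : W' ≤ W) (y : Γ(S.X₁, W')),
        p ∈ W' ∧ S.f.app W' y = S.X₂.presheaf.map (homOfLE h).op z := by
    intro S hS W z hz p hp
    haveI : Epi (kernel.lift S.g S.f S.zero) := (ShortComplex.exact_iff_epi_kernel_lift _).mp hS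
    obtain ⟨k, hk⟩ := QCohLib.exists_of_app_eq_zero
      (S := ShortComplex.mk (kernel.ι S.g) S.g (kernel.condition _))
      (ShortComplex.exact_of_f_is_kernel _ (kernelIsKernel _)) inferInstance z hz
    obtain ⟨W', h, y, hp', hy⟩ := RpushLib.exists_local_lift (kernel.lift S.g S.f S.zero) k hp
    refine ⟨W', h, y, hp', ?_⟩
    refine (congrArg (fun ψ => ψ.app W' y) (kernel.lift_ι S.g S.f S.zero)).symm.trans ?_
    refine (congrArg ((kernel.ι S.g).app W') hy).trans ?_
    exact (QCohLib.app_map (kernel.ι S.g) (homOfLE h) k).trans (congrArg _ hk)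
  have inj : ∀ W : X.Opens, W ≤ V → Function.Injective ((G.map a).app W) := by
    intro W hW
    refine (injective_iff_map_eq_zero _).2 fun x hx => ?_
    refine TopCat.Presheaf.section_ext ((QCohLib.toAbF X).obj (G.obj L) :
      TopCat.Sheaf AddCommGrpCat _) W x 0 fun p hp => ?_
    obtain ⟨W', h, y, hp', hy⟩ := local_lift e₁ W x hx p hp
    exact TopCat.Presheaf.germ_ext _ W' hp' (homOfLE h) (homOfLE h)
      ((hy.symm.trans (hδ W' (h.trans hW) y)).trans (map_zero _).symm)
  have hcomp : ∀ k, G.map (a ≫ Pi.π K k) = G.map a ≫ G.map (Pi.π K k) := fun k => G.map_comp _ _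
  have hb : ∀ W : X.Opens, W ≤ V → ∀ (s : Γ(G.obj (∏ᶜ K), W)),
      (G.map (oneSub K t)).app W s = 0 → (G.map (Pi.π K n)).app W s = 0 → s = 0 := by
    intro W hW s hs h0
    refine sec_ext_prod K (hprod m) fun k => ?_
    rw [map_zero]
    refine eq_zero_of_compatible n (fun k => Γ(G.obj (K k), W))
      (fun k => ((G.map (t k)).app W).hom) (fun k hk => (h₁ k (hn.trans hk) W hW).1)
      (fun k => (G.map (Pi.π K k)).app W s) (fun k => ?_) h0 k
    have := oneSub_app K t m s k
    rw [hs, map_zero] at this
    exact this.symm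
  constructor
  · refine (injective_iff_map_eq_zero _).2 fun x hx => ?_
    refine (injective_iff_map_eq_zero _).1 (inj U hU) x (hb U hU _ ?_ ?_)
    · exact congrArg (fun ψ => ψ.app U x)
        ((G.map_comp _ _).symm.trans ((congrArg G.map (comp_distTriang_mor_zero₁₂ T hT)).trans
          (G.map_zero _ _)))
    · rw [hcomp] at hx
      exact hx
  · intro y
    obtain ⟨r, hr, hrn⟩ := exists_compatible n (fun k => Γ(G.obj (K k), U))
      (fun k => ((G.map (t k)).app U).hom) (fun k hk => h₁ k (hn.trans hk) U hU) y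
    obtain ⟨z, hz⟩ := sec_lift_prod K (hprod m) r
    have hz0 : (G.map (oneSub K t)).app U z = 0 := sec_ext_prod K (hprod m) fun k => by
      rw [oneSub_app, map_zero]
      exact (congrArg₂ (fun p q => p - (G.map (t k)).app U q) (hz k) (hz (k + 1))).trans (hr k)
    choose W hWU x hpW hx using fun p : U => local_lift e₂ U z hz0 p.1 p.2
    obtain ⟨g, hg, -⟩ := TopCat.Sheaf.existsUnique_gluing'
      ((QCohLib.toAbF X).obj (G.obj L) : TopCat.Sheaf AddCommGrpCat _) W U
      (fun p => homOfLE (hWU p)) (fun p hp => Opens.mem_iSup.2 ⟨⟨p, hp⟩, hpW ⟨p, hp⟩⟩) x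
      (fun p q => inj (W p ⊓ W q) ((inf_le_left.trans (hWU p)).trans hU) (by
        refine (QCohLib.app_map (G.map a) _ (x p)).trans ?_
        refine Eq.trans ?_ (QCohLib.app_map (G.map a) _ (x q)).symm
        refine (congrArg _ (hx p)).trans (Eq.trans ?_ (congrArg _ (hx q)).symm)
        exact (QCohLib.map_map' (G.obj (∏ᶜ K)) (Opens.infLELeft (W p) (W q)) (homOfLE (hWU p)) z).trans
          (QCohLib.map_map' (G.obj (∏ᶜ K)) (Opens.infLERight (W p) (W q)) (homOfLE (hWU q)) z).symm))
    refine ⟨g, ?_⟩
    rw [hcomp]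
    change (G.map (Pi.π K n)).app U ((G.map a).app U g) = y
    have : (G.map a).app U g = z := by
      refine TopCat.Sheaf.eq_of_locally_eq' ((QCohLib.toAbF X).obj (G.obj (∏ᶜ K)) :
        TopCat.Sheaf AddCommGrpCat _) W U (fun p => homOfLE (hWU p))
        (fun p hp => Opens.mem_iSup.2 ⟨⟨p, hp⟩, hpW ⟨p, hp⟩⟩) _ _ fun p => ?_
      exact (QCohLib.app_map (G.map a) _ g).symm.trans
        ((congrArg ((G.map a).app (W p)) (hg p)).trans (hx p))
    rw [this, hz n, hrn]

end Key

end QRlimLib
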