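import Groth.Agent.QRlimLib.Rlim
import Groth.Agent.QCohLib.BoundUniform
import Groth.Agent.RpushLib.Push
import Groth.Agent.SpSeqLib.Acyclic
import Groth.Agent.DerLib.Amplitude
import Groth.Agent.DerLib.KInjTriangulated
import Groth.Agent.KFlatLib.LpullAdj
import Groth.Agent.KFlatLib.QCohDev

/-!
# Direct images of bounded below objects with quasi-coherent cohomology
-/

set_option autoImplicit false

universe u

open CategoryTheory CategoryTheory.Limits AlgebraicGeometry TopologicalSpace Opposite Pretriangulated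
open QCohLib (AbSh HU toAbF)
open DerivedCategory.TStructure (t)

attribute [local instance] HasDerivedCategory.standard

namespace QRlimLib

variable {X : Scheme.{u}}

/-- Cohomology of quasi-coherent modules vanishes on `W` from degree `d` on. -/
def VanishOn (W : X.Opens) (d : ℕ) : Prop :=
  ∀ (M : X.Modules), Coh.IsQCoh M → ∀ n, d ≤ n → Subsingleton (HU ((toAbF X).obj M) n W)

variable {J : CochainComplex X.Modules ℤ}

theorem subsingleton_bd_above (hfl : Flasque J) (a b : ℤ) [J.IsStrictlyGE a]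
    (hq : ∀ q, Coh.IsQCoh (J.homology q)) (hb : ∀ q, b < q → IsZero (J.homology q))
    {W : X.Opens} {d : ℕ} (hd : VanishOn W d) (m : ℤ) (k : ℕ)
    (hk : d ≤ k + 1 + (m - b - 1).toNat) :
    Subsingleton (HU ((toAbF X).obj (bd J m)) (k + 1) W) := by
  suffices H : ∀ (e : ℕ) (m : ℤ), m ≤ a + e → ∀ k : ℕ, d ≤ k + 1 + (m - b - 1).toNat →
      Subsingleton (HU ((toAbF X).obj (bd J m)) (k + 1) W) from
    H (m - a).toNat m (by omega) k hk
  intro e
  induction e with
  | zero => exact fun m hm k _ => subsingleton_of_isZero (isZero_bd (by simpa using hm)) _ _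
  | succ e ih =>
    intro m hm k hk
    rcases le_or_gt m (a + e) with h | h
    · exact ih m h k hk
    · haveI : Subsingleton (HU ((bzh J (m - 1)).map (toAbF X)).X₁ (k + 1 + 1) W) :=
        ih (m - 1) (by omega) (k + 1) (by omega)
      haveI : Subsingleton (HU ((bzh J (m - 1)).map (toAbF X)).X₃ (k + 1 + 1) W) := by
        by_cases hmb : b < m - 1
        · exact subsingleton_of_isZero (hb _ hmb) _ _
        · exact hd _ (hq _) _ (by omega)
      haveI : Subsingleton (HU ((zjb J m).map (toAbF X)).X₁ (k + 1 + 1) W) :=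
        subsingleton_X₂ (QCohLib.toAbF_shortExact (bzh_shortExact J (m - 1)))
      haveI : Subsingleton (HU ((zjb J m).map (toAbF X)).X₂ (k + 1) W) :=
        @QCohLib.subsingleton_of_isFlasque _ k ((toAbF X).obj (J.X (m - 1)))
          (isFlasque_toAb hfl (m - 1)) W
      exact QCohLib.subsingleton_X₃ (QCohLib.toAbF_shortExact (zjb_shortExact J m))

/-- Far to the right, cycles of sections are boundaries. -/
theorem exists_primitive (hfl : Flasque J) (a b : ℤ) [J.IsStrictlyGE a]
    (hq : ∀ q, Coh.IsQCoh (J.homology q)) (hb : ∀ q, b < q → IsZero (J.homology q))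
    {W : X.Opens} {d : ℕ} (hd : VanishOn W d) {m : ℤ} (hm : b + (d : ℤ) + 2 ≤ m)
    (z : Γ(J.cycles m, W)) : ∃ w, (J.toCycles (m - 1) m).app W w = z := by
  have hz : (J.homologyπ m).app W z = 0 := by
    have h0 : J.homologyπ m = 0 := (hb m (by omega)).eq_of_tgt _ _
    rw [h0]
    rfl
  obtain ⟨c, hc⟩ := QCohLib.exists_of_app_eq_zero (bzh_shortExact J m).exact inferInstance z hz
  haveI : Subsingleton (HU ((bzh J (m - 1)).map (toAbF X)).X₁ 1 W) :=
    subsingleton_bd_above hfl a b hq hb hd (m - 1) 0 (by omega)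
  haveI : Subsingleton (HU ((bzh J (m - 1)).map (toAbF X)).X₃ 1 W) :=
    subsingleton_of_isZero (hb _ (by omega)) _ _
  haveI : Subsingleton (HU ((zjb J m).map (toAbF X)).X₁ 1 W) :=
    subsingleton_X₂ (QCohLib.toAbF_shortExact (bzh_shortExact J (m - 1)))
  obtain ⟨w, hw⟩ := QCohLib.exists_lift_of_subsingleton
    (QCohLib.toAbF_shortExact (zjb_shortExact J m)) (U := W) c
  refine ⟨w, (congrArg (fun φ => φ.app W w)
    (kernel.lift_ι (J.homologyπ m) (J.toCycles (m - 1) m) (toCycles_homologyπ J m))).symm.trans ?_⟩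
  exact (congrArg ((kernel.ι (J.homologyπ m)).app W) hw).trans hc

variable {S : Scheme.{u}} (f : X ⟶ S)

/-- The direct image of a complex. -/
noncomputable abbrev pushC (K : CochainComplex X.Modules ℤ) : CochainComplex S.Modules ℤ :=
  ((Scheme.Modules.pushforward f).mapHomologicalComplex _).obj K

/-- A section of a cohomology sheaf of `f_* J` vanishes if sections of cycles are boundaries on a
basis. -/
theorem subsingleton_homology_push (m : ℤ) (B : Set S.Opens) (V : S.Opens)
    (hB : ∀ (U : S.Opens) (p : S), p ∈ U → U ≤ V → ∃ U' ∈ B, p ∈ U' ∧ U' ≤ U)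
    (h : ∀ U ∈ B, ∀ z : Γ(J.cycles m, f ⁻¹ᵁ U), ∃ w, (J.toCycles (m - 1) m).app (f ⁻¹ᵁ U) w = z)
    (U : S.Opens) (hU : U ≤ V) : Subsingleton Γ((pushC f J).homology m, U) := by
  refine subsingleton_of_forall_eq 0 fun s => ?_
  refine TopCat.Presheaf.section_ext ((toAbF S).obj ((pushC f J).homology m) :
    TopCat.Sheaf AddCommGrpCat _) U s 0 fun p hp => ?_
  obtain ⟨W₀, hW₀, y, hpW₀, hy⟩ := RpushLib.exists_local_lift ((pushC f J).homologyπ m) s hp
  obtain ⟨W, hW, hpW, hWle⟩ := hB W₀ p hpW₀ (hW₀.trans hU)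
  let y' : Γ((pushC f J).cycles m, W) := ((pushC f J).cycles m).presheaf.map (homOfLE hWle).op y
  let z₀ : Γ(J.X m, f ⁻¹ᵁ W) := ((pushC f J).iCycles m).app W y'
  have hdz : (J.d m (m + 1)).app (f ⁻¹ᵁ W) z₀ = 0 :=
    congrArg (fun φ => φ.app W y') ((pushC f J).iCycles_d m (m + 1))
  obtain ⟨z, hz⟩ := QCohLib.exists_of_app_eq_zero
    (S := ShortComplex.mk (J.iCycles m) (J.d m (m + 1)) (J.iCycles_d _ _))
    (ShortComplex.exact_of_f_is_kernel _ (J.cyclesIsKernel m (m + 1) (by simp))) inferInstance z₀ hdz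
  obtain ⟨w, hw⟩ := h W hW z
  have e : ((pushC f J).toCycles (m - 1) m).app W w = y' := by
    refine QCohLib.app_injective_of_mono ((pushC f J).iCycles m) W ?_
    refine (congrArg (fun φ => φ.app W w) ((pushC f J).toCycles_i (m - 1) m)).trans ?_
    change (J.d (m - 1) m).app (f ⁻¹ᵁ W) w = z₀
    refine (congrArg (fun φ => φ.app (f ⁻¹ᵁ W) w) (J.toCycles_i (m - 1) m)).symm.trans ?_
    exact (congrArg ((J.iCycles m).app (f ⁻¹ᵁ W)) hw).trans hz
  have hres : ((pushC f J).homology m).presheaf.map (homOfLE (hWle.trans hW₀)).op s = 0 := by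
    have h1 : ((pushC f J).homologyπ m).app W y' = 0 := by
      rw [← e]
      exact congrArg (fun φ => φ.app W w) ((pushC f J).toCycles_comp_homologyπ (m - 1) m)
    rw [← h1]
    refine Eq.trans ?_ (QCohLib.app_map ((pushC f J).homologyπ m) (homOfLE hWle) y).symm
    rw [hy, QCohLib.map_map']
    rfl
  exact TopCat.Presheaf.germ_ext _ W hpW (homOfLE (hWle.trans hW₀)) (homOfLE (hWle.trans hW₀))
    (hres.trans (map_zero _).symm)

/-- `Rf_*` is computed on K-injective complexes by `f_*`. -/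
theorem nonempty_pushIso [DCoh.HasRpush f] (I : CochainComplex X.Modules ℤ) [I.IsKInjective] :
    Nonempty ((DCoh.Rpush f).obj (DerivedCategory.Q.obj I) ≅ DerivedCategory.Q.obj (pushC f I)) := by
  let W := HomotopyCategory.quasiIso X.Modules (ComplexShape.up ℤ)
  haveI : ((DCoh.pushKh f).totalRightDerived DerivedCategory.Qh W).IsRightDerivedFunctor
      ((DCoh.pushKh f).totalRightDerivedUnit DerivedCategory.Qh W) W := inferInstance
  haveI := Groth.Agent.DerLib.KInjDerived.isIso_app (DCoh.Rpush f)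
    ((DCoh.pushKh f).totalRightDerivedUnit DerivedCategory.Qh W) KFlatLib.enoughKInj_modules I
  exact ⟨(DCoh.Rpush f).mapIso ((DerivedCategory.quotientCompQhIso X.Modules).app I).symm ≪≫
    (asIso (((DCoh.pushKh f).totalRightDerivedUnit DerivedCategory.Qh W).app
      ((HomotopyCategory.quotient X.Modules (ComplexShape.up ℤ)).obj I))).symm ≪≫
    DerivedCategory.Qh.mapIso
      (((Scheme.Modules.pushforward f).mapHomotopyCategoryFactors (ComplexShape.up ℤ)).app I) ≪≫
    (DerivedCategory.quotientCompQhIso S.Modules).app _⟩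

theorem exists_vanishOn [QuasiCompact f] [QuasiSeparated f] {V : S.Opens} (hV : IsAffineOpen V) :
    ∃ d : ℕ, ∀ g : Γ(S, V), VanishOn (f ⁻¹ᵁ S.basicOpen g) d := by
  obtain ⟨d, hd⟩ := QCohLib.uBounded_of_isCompact _ (f.isQuasiSeparated_preimage hV.isQuasiSeparated) _
    (QuasiCompact.isCompact_preimage (f := f) V V.isOpen hV.isCompact) le_rfl
  refine ⟨d, fun g M hM n hn => ?_⟩
  have h := hd (f.app V g) M hM n hn
  rwa [← Scheme.preimage_basicOpen, inf_eq_right.mpr (f.preimage_mono (S.basicOpen_le g))] at h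

/-- `H^m` vanishes on `V`. -/
def ZeroOn (K : DCoh.D S) (V : S.Opens) (m : ℤ) : Prop :=
  ∀ U : S.Opens, U ≤ V → Subsingleton Γ(DCoh.HD K m, U)

theorem subsingleton_sections_of_iso {M N : S.Modules} (e : M ≅ N) (U : S.Opens)
    (h : Subsingleton Γ(M, U)) : Subsingleton Γ(N, U) :=
  ⟨fun x y => by
    have hx : ∀ w : Γ(N, U), e.hom.app U (e.inv.app U w) = w := fun w =>
      congrArg (fun φ => φ.app U w) e.inv_hom_id
    rw [← hx x, ← hx y, h.elim (e.inv.app U x) (e.inv.app U y)]⟩

/-- The amplitude of `Rf_*` over an affine open. -/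
theorem exists_bound_bddBelow [QuasiCompact f] [QuasiSeparated f] [DCoh.HasRpush f] {V : S.Opens}
    (hV : IsAffineOpen V) : ∃ d : ℕ, ∀ (E : DCoh.D X) (a b : ℤ), E.IsGE a → E.IsLE b →
      DCoh.IsQCohD E → ∀ m : ℤ, b + (d : ℤ) ≤ m → ZeroOn ((DCoh.Rpush f).obj E) V m := by
  obtain ⟨d, hd⟩ := exists_vanishOn f hV
  refine ⟨d + 2, fun E a b hGE hLE hq m hm U hU => ?_⟩
  obtain ⟨I, hI, hfl, hge, ⟨e⟩⟩ := exists_kInjective_bounded E a
  haveI := hI
  haveI := hge
  obtain ⟨eP⟩ := nonempty_pushIso f I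
  refine subsingleton_sections_of_iso (((DerivedCategory.homologyFunctor S.Modules m).mapIso
    ((DCoh.Rpush f).mapIso e ≪≫ eP) ≪≫
      (DerivedCategory.homologyFunctorFactors S.Modules m).app _).symm) U ?_
  have eH : ∀ q, DCoh.HD E q ≅ I.homology q := fun q =>
    (DerivedCategory.homologyFunctor X.Modules q).mapIso e ≪≫
      (DerivedCategory.homologyFunctorFactors X.Modules q).app I
  refine subsingleton_homology_push f m {W | ∃ g : Γ(S, V), W = S.basicOpen g} V
    (fun W p hp hW => ?_) ?_ U hU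
  · obtain ⟨g, hg, hpg⟩ := hV.exists_basicOpen_le (V := W) ⟨p, hp⟩ (hW hp)
    exact ⟨_, ⟨g, rfl⟩, hpg, hg⟩
  · rintro W ⟨g, rfl⟩ z
    exact exists_primitive hfl a b (fun q => @QCohLib.isQCoh_of_iso _ _ _ (eH q) (hq q))
      (fun q hq' => (DerivedCategory.isZero_of_isLE E b q hq').of_iso (eH q).symm) (hd g) (by omega) z

theorem rpush_isGE [DCoh.HasRpush f] (E : DCoh.D X) (a : ℤ) [E.IsGE a] :
    ((DCoh.Rpush f).obj E).IsGE a := by
  haveI : EnoughInjectives X.Modules := IsGrothendieckAbelian.enoughInjectives.{u}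
  rw [DerivedCategory.isGE_iff]
  intro i hi
  exact Groth.Agent.DerLib.Amplitude.leftBound_rightDerived (Scheme.Modules.pushforward f) (DCoh.Rpush f)
    ((DCoh.pushKh f).totalRightDerivedUnit DerivedCategory.Qh
      (HomotopyCategory.quasiIso X.Modules (ComplexShape.up ℤ))) KFlatLib.enoughKInj_modules E a i ‹_›
    (by omega)

theorem isQCohD_rpush_single [QuasiCompact f] [QuasiSeparated f] [DCoh.HasRpush f] (M : X.Modules)
    [Coh.IsQCoh M] :
    DCoh.IsQCohD ((DCoh.Rpush f).obj ((DerivedCategory.singleFunctor X.Modules 0).obj M)) := by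
  haveI : EnoughInjectives X.Modules := IsGrothendieckAbelian.enoughInjectives.{u}
  let R := injectiveResolution M
  haveI : R.cochainComplex.IsKInjective := CochainComplex.isKInjective_of_injective _ 0
  obtain ⟨eP⟩ := nonempty_pushIso f R.cochainComplex
  let e := (DCoh.Rpush f).mapIso (((DerivedCategory.singleFunctorIsoCompQ X.Modules 0).app M) ≪≫
    asIso (DerivedCategory.Q.map R.ι')) ≪≫ eP
  intro q
  refine @QCohLib.isQCoh_of_iso _ _ _ (((DerivedCategory.homologyFunctor S.Modules q).mapIso e ≪≫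
    (DerivedCategory.homologyFunctorFactors S.Modules q).app _).symm) ?_
  by_cases hq : 0 ≤ q
  · obtain ⟨k, rfl⟩ := Int.eq_ofNat_of_zero_le hq
    exact @QCohLib.isQCoh_of_iso _ _ _
      ((HomologicalComplex.homologyFunctor S.Modules (ComplexShape.up ℤ) (k : ℤ)).mapIso
        (SpSeqLib.mapExtendNatIso (Scheme.Modules.pushforward f) R.cocomplex) ≪≫
      HomologicalComplex.extendHomologyIso _ ComplexShape.embeddingUpNat (j := k) (by simp)).symm
      (RpushLib.isQCoh_homology (RpushLib.localizes_pushCx f (RpushLib.FlRes.ofInjective R) k))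
  · refine KFlatLib.isQCoh_zero (HomologicalComplex.ExactAt.isZero_homology ?_)
    exact (HomologicalComplex.exactAt_iff _ q).2 (ShortComplex.exact_of_isZero_X₂ _
      ((Scheme.Modules.pushforward f).map_isZero
        (R.cochainComplex.isZero_of_isStrictlyGE 0 q (by omega))))

/-- `Rf_*` as a functor respecting triangles. -/
noncomputable def pushTriFun [DCoh.HasRpush f] : KFlatLib.TriFun X S where
  Λ := DCoh.Rpush f
  zero {K} h := by
    obtain ⟨_, _⟩ := Groth.Agent.DerLib.KInjDerived.exists_isTriangulated_map KFlatLib.enoughKInj_modules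
      (Scheme.Modules.pushforward f) (DCoh.Rpush f)
      ((DCoh.pushKh f).totalRightDerivedUnit DerivedCategory.Qh
        (HomotopyCategory.quasiIso X.Modules (ComplexShape.up ℤ)))
    exact Functor.map_isZero _ h
  tri T hT := by
    obtain ⟨_, _⟩ := Groth.Agent.DerLib.KInjDerived.exists_isTriangulated_map KFlatLib.enoughKInj_modules
      (Scheme.Modules.pushforward f) (DCoh.Rpush f)
      ((DCoh.pushKh f).totalRightDerivedUnit DerivedCategory.Qh
        (HomotopyCategory.quasiIso X.Modules (ComplexShape.up ℤ)))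
    exact ⟨_, (DCoh.Rpush f).map_distinguished T hT, ⟨Iso.refl _⟩, ⟨Iso.refl _⟩, ⟨Iso.refl _⟩⟩

theorem isQCohD_rpush_bdd [QuasiCompact f] [QuasiSeparated f] [DCoh.HasRpush f] (a : ℤ)
    (K : DCoh.D X) [K.IsGE a] (hK : DCoh.IsQCohD K) : DCoh.IsQCohD ((DCoh.Rpush f).obj K) := by
  intro i
  let b : ℤ := max (i + 1) a
  have hT := t.triangleLEGT_distinguished b K
  have hs : ∀ (M : X.Modules), Coh.IsQCoh M →
      (pushTriFun f).Q ((DerivedCategory.singleFunctor X.Modules 0).obj M) :=
    fun M hM => @isQCohD_rpush_single _ _ f _ _ _ M hM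
  haveI : ((t.truncLE b).obj K).IsGE a := by
    rw [DerivedCategory.isGE_iff]
    intro j hj
    have := Groth.Agent.DerLib.Devissage.isIso_homology_truncLEι K b j (by omega)
    exact (DerivedCategory.isZero_of_isGE K a j hj).of_iso
      (asIso ((DerivedCategory.homologyFunctor X.Modules j).map ((t.truncLEι b).app K)))
  haveI : ((t.truncLE b).obj K).IsLE (a + ((b - a).toNat : ℤ)) :=
    t.isLE_of_le _ b _ (by omega)
  have h₁ : DCoh.IsQCohD ((DCoh.Rpush f).obj ((t.truncLE b).obj K)) :=
    (pushTriFun f).q_bounded hs a (b - a).toNat _ fun q => by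
      by_cases hq : q ≤ b
      · have := Groth.Agent.DerLib.Devissage.isIso_homology_truncLEι K b q hq
        exact @QCohLib.isQCoh_of_iso _ _ _
          (asIso ((DerivedCategory.homologyFunctor X.Modules q).map ((t.truncLEι b).app K))).symm (hK q)
      · exact KFlatLib.isQCoh_zero (DerivedCategory.isZero_of_isLE _ b q (by omega))
  haveI := rpush_isGE f ((t.truncGT b).obj K) (b + 1)
  obtain ⟨_, _⟩ := Groth.Agent.DerLib.KInjDerived.exists_isTriangulated_map KFlatLib.enoughKInj_modules
    (Scheme.Modules.pushforward f) (DCoh.Rpush f)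
    ((DCoh.pushKh f).totalRightDerivedUnit DerivedCategory.Qh
      (HomotopyCategory.quasiIso X.Modules (ComplexShape.up ℤ)))
  haveI : (((DCoh.Rpush f).mapTriangle.obj ((t.triangleLEGT b).obj K)).obj₃).IsGE (b + 1) :=
    rpush_isGE f ((t.truncGT b).obj K) (b + 1)
  exact KFlatLib.isQCoh_HD₂ ((DCoh.Rpush f).map_distinguished _ hT) i
    (KFlatLib.isQCoh_zero (DerivedCategory.isZero_of_isGE _ (b + 1) (i - 1) (by omega)))
    (h₁ i)
    (KFlatLib.isQCoh_zero (DerivedCategory.isZero_of_isGE _ (b + 1) i (by omega)))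
    (h₁ (i + 1))

end QRlimLib
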