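import Groth.Agent.QRlimLib.Unbounded

/-!
# Truncations above of objects with quasi-coherent cohomology
-/

set_option autoImplicit false

universe u

open CategoryTheory CategoryTheory.Limits AlgebraicGeometry
open DerivedCategory.TStructure (t)

attribute [local instance] HasDerivedCategory.standard

namespace QRlimLib

variable {X : Scheme.{u}}

theorem isQCohD_truncLE {K : DCoh.D X} (hK : DCoh.IsQCohD K) (b : ℤ) :
    DCoh.IsQCohD ((t.truncLE b).obj K) := fun q => by
  by_cases hq : q ≤ b
  · have := Groth.Agent.DerLib.Devissage.isIso_homology_truncLEι K b q hq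
    exact @QCohLib.isQCoh_of_iso _ _ _
      (asIso ((DerivedCategory.homologyFunctor X.Modules q).map ((t.truncLEι b).app K))).symm (hK q)
  · exact KFlatLib.isQCoh_zero (DerivedCategory.isZero_of_isLE _ b q (by omega))

end QRlimLib
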