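import Groth.Agent.RpushLib.Resol
import Groth.Agent.QCohLib.AbPush

/-!
# Sections of complexes of flasque modules with quasi-coherent cohomology, over affine opens
-/

set_option autoImplicit false

universe u

open CategoryTheory CategoryTheory.Limits AlgebraicGeometry TopologicalSpace Opposite
open QCohLib (AbSh HU toAbF)

namespace QRlimLib

variable {X : Scheme.{u}}

theorem subsingleton_X₂ {T : TopCat.{u}} {S : ShortComplex (AbSh T)} (hS : S.ShortExact) {n : ℕ}
    {U : Opens T} [Subsingleton (HU S.X₁ n U)] [Subsingleton (HU S.X₃ n U)] :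
    Subsingleton (HU S.X₂ n U) := by
  refine _root_.subsingleton_of_forall_eq 0 fun x => ?_
  obtain ⟨y, rfl⟩ := Abelian.Ext.covariant_sequence_exact₂ _ hS x (Subsingleton.elim _ _)
  rw [Subsingleton.elim y 0, Abelian.Ext.zero_comp]

variable (J : CochainComplex X.Modules ℤ)

/-- Boundaries in degree `m`. -/
noncomputable abbrev bd (m : ℤ) : X.Modules := kernel (J.homologyπ m)

/-- `0 → B^m → Z^m → H^m → 0`. -/
noncomputable abbrev bzh (m : ℤ) : ShortComplex X.Modules :=
  ShortComplex.mk (kernel.ι (J.homologyπ m)) (J.homologyπ m) (kernel.condition _)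

theorem bzh_shortExact (m : ℤ) : (bzh J m).ShortExact :=
  ShortComplex.ShortExact.mk' (ShortComplex.exact_of_f_is_kernel _ (kernelIsKernel _))
    inferInstance inferInstance

theorem toCycles_homologyπ (m : ℤ) : J.toCycles (m - 1) m ≫ J.homologyπ m = 0 :=
  J.toCycles_comp_homologyπ _ _

/-- The boundary map. -/
noncomputable abbrev toBd (m : ℤ) : J.X (m - 1) ⟶ bd J m :=
  kernel.lift _ (J.toCycles (m - 1) m) (toCycles_homologyπ J m)

theorem iCycles_toBd (m : ℤ) : J.iCycles (m - 1) ≫ toBd J m = 0 := by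
  rw [← cancel_mono (kernel.ι (J.homologyπ m)), Category.assoc, kernel.lift_ι, zero_comp,
    ← cancel_mono (J.iCycles m), Category.assoc, HomologicalComplex.toCycles_i, zero_comp,
    HomologicalComplex.iCycles_d]

/-- `0 → Z^{m-1} → J^{m-1} → B^m → 0`. -/
noncomputable abbrev zjb (m : ℤ) : ShortComplex X.Modules :=
  ShortComplex.mk (J.iCycles (m - 1)) (toBd J m) (iCycles_toBd J m)

theorem zjb_shortExact (m : ℤ) : (zjb J m).ShortExact := by
  let S := ShortComplex.mk (J.toCycles (m - 1) m) (J.homologyπ m) (toCycles_homologyπ J m)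
  have hS : S.Exact :=
    ShortComplex.exact_of_g_is_cokernel _ (J.homologyIsCokernel (m - 1) m (by simp))
  haveI : Epi (toBd J m) := (ShortComplex.exact_iff_epi_kernel_lift S).1 hS
  let S' := ShortComplex.mk (J.iCycles (m - 1)) (J.d (m - 1) m) (J.iCycles_d _ _)
  have hS' : S'.Exact :=
    ShortComplex.exact_of_f_is_kernel _ (J.cyclesIsKernel (m - 1) m (by simp))
  let φ : zjb J m ⟶ S' :=
    { τ₁ := 𝟙 _
      τ₂ := 𝟙 _
      τ₃ := kernel.ι (J.homologyπ m) ≫ J.iCycles m
      comm₁₂ := by simp [S']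
      comm₂₃ := by simp [S', toBd] }
  haveI : Epi φ.τ₁ := inferInstanceAs (Epi (𝟙 _))
  haveI : IsIso φ.τ₂ := inferInstanceAs (IsIso (𝟙 _))
  haveI : Mono φ.τ₃ := inferInstanceAs (Mono (kernel.ι (J.homologyπ m) ≫ J.iCycles m))
  exact ShortComplex.ShortExact.mk' ((ShortComplex.exact_iff_of_epi_of_isIso_of_mono φ).2 hS')
    inferInstance inferInstance

/-- Terms are flasque. -/
def Flasque : Prop :=
  ∀ (n : ℤ) {P Q : X.Opens} (h : P ≤ Q), Function.Surjective ((J.X n).presheaf.map (homOfLE h).op)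

theorem flasque_of_injective [∀ n, Injective (J.X n)] : Flasque J :=
  fun n _ _ h => RpushLib.surjective_map_injective (J.X n) h

variable {J}

theorem isFlasque_toAb (hfl : Flasque J) (n : ℤ) :
    TopCat.Sheaf.IsFlasque ((toAbF X).obj (J.X n) : TopCat.Sheaf AddCommGrpCat.{u} X.toTopCat) :=
  ⟨fun {U V} i => (AddCommGrpCat.epi_iff_surjective _).mpr
    (hfl n (P := V.unop) (Q := U.unop) i.unop.le)⟩

theorem isZero_bd {a : ℤ} [J.IsStrictlyGE a] {m : ℤ} (hm : m ≤ a) : IsZero (bd J m) := by
  haveI := (zjb_shortExact J m).epi_g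
  exact IsZero.of_epi (toBd J m) (J.isZero_of_isStrictlyGE a (m - 1) (by omega))

theorem subsingleton_of_isZero {M : X.Modules} (h : IsZero M) (n : ℕ) (U : X.Opens) :
    Subsingleton (HU ((toAbF X).obj M) n U) := by
  refine _root_.subsingleton_of_forall_eq 0 fun x => ?_
  have e : x = x.comp (Abelian.Ext.mk₀ (𝟙 _)) (add_zero n) := (Abelian.Ext.comp_mk₀_id x).symm
  rw [e, ((toAbF X).map_isZero h).eq_of_src (𝟙 _) 0, Abelian.Ext.mk₀_zero, Abelian.Ext.comp_zero]

/-- Boundaries are acyclic on affine opens. -/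
theorem subsingleton_bd (hfl : Flasque J) (a : ℤ) [J.IsStrictlyGE a]
    (hq : ∀ q, Coh.IsQCoh (J.homology q)) {U : X.Opens} (hU : IsAffineOpen U) (m : ℤ) (k : ℕ) :
    Subsingleton (HU ((toAbF X).obj (bd J m)) (k + 1) U) := by
  suffices H : ∀ (d : ℕ) (m : ℤ), m ≤ a + d → ∀ k : ℕ,
      Subsingleton (HU ((toAbF X).obj (bd J m)) (k + 1) U) from
    H (m - a).toNat m (by omega) k
  intro d
  induction d with
  | zero => exact fun m hm k => subsingleton_of_isZero (isZero_bd (by simpa using hm)) _ _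
  | succ d ih =>
    intro m hm k
    rcases le_or_gt m (a + d) with h | h
    · exact ih m h k
    · haveI : ∀ k, Subsingleton (HU ((bzh J (m - 1)).map (toAbF X)).X₁ (k + 1) U) :=
        fun k => ih (m - 1) (by omega) k
      haveI : ∀ k, Subsingleton (HU ((bzh J (m - 1)).map (toAbF X)).X₃ (k + 1) U) :=
        fun k => have := hq (m - 1); QCohLib.subsingleton_HU_affine _ k hU
      haveI : Subsingleton (HU ((zjb J m).map (toAbF X)).X₁ (k + 1 + 1) U) :=
        subsingleton_X₂ (QCohLib.toAbF_shortExact (bzh_shortExact J (m - 1)))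
      haveI : Subsingleton (HU ((zjb J m).map (toAbF X)).X₂ (k + 1) U) :=
        @QCohLib.subsingleton_of_isFlasque _ k ((toAbF X).obj (J.X (m - 1)))
          (isFlasque_toAb hfl (m - 1)) U
      exact QCohLib.subsingleton_X₃ (QCohLib.toAbF_shortExact (zjb_shortExact J m))

/-- Sections over affines of `J^{m-1} → Z^m → H^m → 0` are exact. -/
structure AffExact (J : CochainComplex X.Modules ℤ) (U : X.Opens) (m : ℤ) : Prop where
  surj : Function.Surjective ((J.homologyπ m).app U)
  exact : ∀ z, (J.homologyπ m).app U z = 0 → ∃ w, (J.toCycles (m - 1) m).app U w = z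

theorem affExact (hfl : Flasque J) (a : ℤ) [J.IsStrictlyGE a]
    (hq : ∀ q, Coh.IsQCoh (J.homology q)) {U : X.Opens} (hU : IsAffineOpen U) (m : ℤ) :
    AffExact J U m := by
  haveI : ∀ m, Subsingleton (HU ((bzh J m).map (toAbF X)).X₁ 1 U) :=
    fun m => subsingleton_bd hfl a hq hU m 0
  constructor
  · exact fun s => QCohLib.exists_lift_of_subsingleton (QCohLib.toAbF_shortExact (bzh_shortExact J m))
      (U := U) s
  · intro z hz
    obtain ⟨b, hb⟩ := QCohLib.exists_of_app_eq_zero (bzh_shortExact J m).exact inferInstance z hz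
    haveI : Subsingleton (HU ((bzh J (m - 1)).map (toAbF X)).X₃ 1 U) :=
      have := hq (m - 1); QCohLib.subsingleton_HU_affine _ 0 hU
    haveI : Subsingleton (HU ((zjb J m).map (toAbF X)).X₁ 1 U) :=
      subsingleton_X₂ (QCohLib.toAbF_shortExact (bzh_shortExact J (m - 1)))
    obtain ⟨w, hw⟩ := QCohLib.exists_lift_of_subsingleton
      (QCohLib.toAbF_shortExact (zjb_shortExact J m)) (U := U) b
    refine ⟨w, ?_⟩
    have e := congrArg (fun φ => φ.app U w)
      (kernel.lift_ι (J.homologyπ m) (J.toCycles (m - 1) m) (toCycles_homologyπ J m))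
    refine e.symm.trans ?_
    exact (congrArg ((kernel.ι (J.homologyπ m)).app U) hw).trans hb

end QRlimLib
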