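import Groth.Agent.QRlimLib.Unbounded

/-!
# Direct images along affine morphisms detect objects with quasi-coherent cohomology
-/

set_option autoImplicit false

universe u

open CategoryTheory CategoryTheory.Limits AlgebraicGeometry TopologicalSpace Opposite Pretriangulated
open QCohLib (toAbF)

attribute [local instance] HasDerivedCategory.standard

namespace QRlimLib

variable {X S : Scheme.{u}}

theorem isZero_of_subsingleton_affine (M : X.Modules) [Coh.IsQCoh M] {ι : Type*} (W : ι → X.Opens)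
    (hW : ∀ i, IsAffineOpen (W i)) (hcov : ⨆ i, W i = ⊤) (h : ∀ i, Subsingleton Γ(M, W i)) :
    IsZero M := by
  refine isZero_of_sections W hcov fun i U hU => ?_
  refine subsingleton_of_forall_eq 0 fun s => ?_
  refine TopCat.Presheaf.section_ext ((toAbF X).obj M : TopCat.Sheaf AddCommGrpCat _) U s 0
    fun p hp => ?_
  obtain ⟨g, hg, hpg⟩ := (hW i).exists_basicOpen_le ⟨p, hp⟩ (hU hp)
  obtain ⟨k, x, hx⟩ := (QCohLib.localizingAt_of_isQCoh (hW i) M g).exists_extend
    (M.presheaf.map (homOfLE hg).op s)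
  have hx0 : x = 0 := (h i).elim _ _
  rw [hx0, map_zero] at hx
  have hu := (QCohLib.isUnit_res g (le_refl (X.basicOpen g))).pow k
  exact TopCat.Presheaf.germ_ext _ (X.basicOpen g) hpg (homOfLE hg) (homOfLE hg)
    ((hu.smul_eq_zero.1 hx.symm).trans (map_zero _).symm)

/-- A section of a cohomology sheaf upstairs vanishes when the direct image has no cohomology. -/
theorem subsingleton_homology_of_push (f : X ⟶ S) {J : CochainComplex X.Modules ℤ} (m : ℤ)
    {V : S.Opens} (hexact : Function.Surjective ((J.homologyπ m).app (f ⁻¹ᵁ V)))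
    (h : ∀ U : S.Opens, U ≤ V → Subsingleton Γ((pushC f J).homology m, U)) :
    Subsingleton Γ(J.homology m, f ⁻¹ᵁ V) := by
  refine subsingleton_of_forall_eq 0 fun s => ?_
  obtain ⟨z, rfl⟩ := hexact s
  let z₀ : Γ((pushC f J).X m, V) := (J.iCycles m).app (f ⁻¹ᵁ V) z
  have hdz : ((pushC f J).d m (m + 1)).app V z₀ = 0 :=
    congrArg (fun φ => φ.app (f ⁻¹ᵁ V) z) (J.iCycles_d m (m + 1))
  obtain ⟨y, hy⟩ := QCohLib.exists_of_app_eq_zero
    (S := ShortComplex.mk ((pushC f J).iCycles m) ((pushC f J).d m (m + 1)) ((pushC f J).iCycles_d _ _))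
    (ShortComplex.exact_of_f_is_kernel _ ((pushC f J).cyclesIsKernel m (m + 1) (by simp))) inferInstance
    z₀ hdz
  have hS : (ShortComplex.mk ((pushC f J).toCycles (m - 1) m) ((pushC f J).homologyπ m)
      ((pushC f J).toCycles_comp_homologyπ _ _)).Exact :=
    ShortComplex.exact_of_g_is_cokernel _ ((pushC f J).homologyIsCokernel (m - 1) m (by simp))
  refine TopCat.Presheaf.section_ext ((toAbF X).obj (J.homology m) :
    TopCat.Sheaf AddCommGrpCat _) _ _ 0 fun p hp => ?_
  obtain ⟨W, hWV, w, hpW, hw⟩ := exists_local_lift_exact hS V y ((h V le_rfl).elim _ _) (f p) hp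
  let w' : Γ(J.X (m - 1), f ⁻¹ᵁ W) := w
  have e : (J.toCycles (m - 1) m).app (f ⁻¹ᵁ W) w' =
      (J.cycles m).presheaf.map (homOfLE (f.preimage_mono hWV)).op z := by
    refine QCohLib.app_injective_of_mono (J.iCycles m) (f ⁻¹ᵁ W) ?_
    refine (congrArg (fun φ => φ.app (f ⁻¹ᵁ W) w') (J.toCycles_i (m - 1) m)).trans ?_
    refine ((congrArg (fun φ => φ.app W w) ((pushC f J).toCycles_i (m - 1) m)).symm.trans ?_).trans
      (QCohLib.app_map (J.iCycles m) (homOfLE (f.preimage_mono hWV)) z).symm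
    refine (congrArg (((pushC f J).iCycles m).app W) hw).trans ?_
    refine (QCohLib.app_map ((pushC f J).iCycles m) (homOfLE hWV) y).trans ?_
    rw [hy]
    rfl
  have hres : (J.homology m).presheaf.map (homOfLE (f.preimage_mono hWV)).op
      ((J.homologyπ m).app (f ⁻¹ᵁ V) z) = 0 := by
    refine (QCohLib.app_map (J.homologyπ m) (homOfLE (f.preimage_mono hWV)) z).symm.trans ?_
    rw [← e]
    exact congrArg (fun φ => φ.app (f ⁻¹ᵁ W) w') (J.toCycles_comp_homologyπ (m - 1) m)
  exact TopCat.Presheaf.germ_ext _ (f ⁻¹ᵁ W) hpW (homOfLE (f.preimage_mono hWV))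
    (homOfLE (f.preimage_mono hWV)) (hres.trans (map_zero _).symm)

theorem isZero_of_isZero_rpush (f : X ⟶ S) [IsAffineHom f] [DCoh.HasRpush f] {E : DCoh.D X}
    (hE : DCoh.IsQCohD E) (h : IsZero ((DCoh.Rpush f).obj E)) : IsZero E := by
  have key : ∀ m, IsZero ((DerivedCategory.homologyFunctor X.Modules m).obj E) := fun m => by
    haveI : Coh.IsQCoh ((DerivedCategory.homologyFunctor X.Modules m).obj E) := hE m
    refine isZero_of_subsingleton_affine _ (fun V : S.affineOpens => f ⁻¹ᵁ V.1)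
      (fun V => IsAffineOpen.preimage V.2 f) ?_ fun V => ?_
    · rw [← Scheme.Hom.preimage_iSup, iSup_affineOpens_eq_top S]
      rfl
    obtain ⟨d, -, hd⟩ := exists_comparison f hE V.1 V.2
    let n : ℕ := max ((d : ℤ) - m).toNat (-m).toNat
    obtain ⟨φ, hφ⟩ := hd m n (by omega)
    obtain ⟨I, hI, hfl, hge, ⟨e⟩⟩ := exists_kInjective_bounded (CohCx.truncTower E n) (-(n : ℤ))
    haveI := hI
    haveI := hge
    obtain ⟨eP⟩ := nonempty_pushIso f I
    have eH : ∀ q, DCoh.HD (CohCx.truncTower E n) q ≅ I.homology q := fun q =>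
      (DerivedCategory.homologyFunctor X.Modules q).mapIso e ≪≫
        (DerivedCategory.homologyFunctorFactors X.Modules q).app I
    have hq : ∀ q, Coh.IsQCoh (I.homology q) := fun q =>
      @QCohLib.isQCoh_of_iso _ _ _ (eH q) (isQCohD_trunc hE n q)
    haveI := isIso_HD_toTrunc E n m (by omega)
    refine subsingleton_sections_of_iso ((eH m).symm ≪≫
      (asIso ((DerivedCategory.homologyFunctor X.Modules m).map (CohCx.toTruncTower E n))).symm) _ ?_
    refine subsingleton_homology_of_push f m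
      (affExact hfl (-(n : ℤ)) hq (IsAffineOpen.preimage V.2 f) m).surj fun U hU => ?_
    refine subsingleton_sections_of_iso ((DerivedCategory.homologyFunctor S.Modules m).mapIso
      ((DCoh.Rpush f).mapIso e ≪≫ eP) ≪≫
        (DerivedCategory.homologyFunctorFactors S.Modules m).app _) U ?_
    have : Subsingleton Γ(DCoh.HD ((DCoh.Rpush f).obj E) m, U) :=
      have hz : IsZero (DCoh.HD ((DCoh.Rpush f).obj E) m) :=
        (DerivedCategory.homologyFunctor S.Modules m).map_isZero h
      subsingleton_of_forall_eq 0 fun x => congrArg (fun φ => φ.app U x) (hz.eq_of_src (𝟙 _) 0)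
    exact (hφ U hU).2.subsingleton
  haveI : IsIso (0 : E ⟶ E) := (DerivedCategory.isIso_iff X.Modules (0 : E ⟶ E)).2 fun m => (key m).isIso (key m) _
  rw [IsZero.iff_id_eq_zero]
  exact (cancel_epi (0 : E ⟶ E)).1 (by simp)

theorem isIso_of_isIso_rpush (f : X ⟶ S) [IsAffineHom f] [DCoh.HasRpush f] {E F : DCoh.D X}
    (hE : DCoh.IsQCohD E) (hF : DCoh.IsQCohD F) (α : E ⟶ F) (hα : IsIso ((DCoh.Rpush f).map α)) :
    IsIso α := by
  obtain ⟨C, g, h, hT⟩ := Pretriangulated.distinguished_cocone_triangle α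
  obtain ⟨_, _⟩ := exists_isTriangulated_rpush f
  have hC : DCoh.IsQCohD C :=
    KFlatLib.isQCohD₂ (T := (Triangle.mk α g h).rotate) (rot_of_distTriang _ hT) hF
      (KFlatLib.isQCohD_shift hE 1)
  have hz : IsZero ((DCoh.Rpush f).obj C) := by
    haveI := hα
    exact (Triangle.isZero₃_iff_isIso₁ _ ((DCoh.Rpush f).map_distinguished _ hT)).2 hα
  exact (Triangle.isZero₃_iff_isIso₁ _ hT).1 (isZero_of_isZero_rpush f hC hz)

end QRlimLib
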