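import Groth.Agent.QRlimLib.Exact
import Groth.Agent.RpushLib.AdjIso
import Groth.Agent.RpushLib.Sheaf
import Groth.Agent.DerLib.KInjUse
import Groth.Agent.DerLib.Horseshoe
import Groth.Agent.KFlatLib.DerivedTensor
import Groth.Agent.KFlatLib.CoprodKFlat

/-!
# Cohomology sheaves of products of objects with quasi-coherent cohomology
-/

set_option autoImplicit false

universe u

open CategoryTheory CategoryTheory.Limits AlgebraicGeometry TopologicalSpace Opposite

attribute [local instance] HasDerivedCategory.standard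

namespace QRlimLib

open KFlatLib

variable {X : Scheme.{u}}

section Sections

variable {ι : Type*} {M : ι → X.Modules} {c : Fan M} (hc : IsLimit c)

include hc in
theorem sec_ext {U : X.Opens} {s t : Γ(c.pt, U)} (h : ∀ i, (c.proj i).app U s = (c.proj i).app U t) :
    s = t := by
  have e : secMap s = secMap t := by
    refine Fan.IsLimit.hom_ext hc _ _ fun i => ?_
    rw [secMap_comp, secMap_comp, h i]
  simpa [secMap] using e

include hc in
theorem sec_lift {U : X.Opens} (s : ∀ i, Γ(M i, U)) :
    ∃ t : Γ(c.pt, U), ∀ i, (c.proj i).app U t = s i := by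
  refine ⟨freeUEquiv U _ (Fan.IsLimit.lift hc fun i => secMap (s i)), fun i => ?_⟩
  rw [← freeUEquiv_comp]
  refine (congrArg (freeUEquiv U (M i)) (Fan.IsLimit.fac hc (fun i => secMap (s i)) i)).trans ?_
  rw [secMap, Equiv.apply_symm_apply]

end Sections

variable {ι : Type} (J : ι → CochainComplex X.Modules ℤ) [HasProduct J]

theorem bijective_comparison {U : X.Opens} (hU : IsAffineOpen U) (m : ℤ)
    (h : ∀ V : X.Opens, IsAffineOpen V → ∀ i, AffExact (J i) V m) :
    Function.Bijective
      ((Pi.lift fun i => HomologicalComplex.homologyMap (Pi.π J i) m :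
        (∏ᶜ J).homology m ⟶ ∏ᶜ fun i => (J i).homology m).app U) := by
  let φ : (∏ᶜ J).homology m ⟶ ∏ᶜ fun i => (J i).homology m :=
    Pi.lift fun i => HomologicalComplex.homologyMap (Pi.π J i) m
  let P := ∏ᶜ J
  have hP : ∀ j : ℤ, IsLimit (Fan.mk (P.X j) fun i => (Pi.π J i).f j) := fun j =>
    isLimitFanMkObjOfIsLimit (HomologicalComplex.eval _ _ j) J (Pi.π J) (productIsProduct J)
  have hH := productIsProduct (fun i => (J i).homology m)
  have hcomp : ∀ (i : ι) {V : X.Opens} (z : Γ(P.cycles m, V)),
      (Pi.π (fun i => (J i).homology m) i).app V (φ.app V ((P.homologyπ m).app V z)) =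
        ((J i).homologyπ m).app V ((HomologicalComplex.cyclesMap (Pi.π J i) m).app V z) := by
    intro i V z
    have e := congrArg (fun ψ => ψ.app V z)
      (show P.homologyπ m ≫ φ ≫ Pi.π (fun i => (J i).homology m) i =
          HomologicalComplex.cyclesMap (Pi.π J i) m ≫ (J i).homologyπ m by
        rw [Pi.lift_π, HomologicalComplex.homologyπ_naturality])
    exact e
  have hcyc : ∀ (i : ι) {V : X.Opens} (z : Γ(P.cycles m, V)),
      ((J i).iCycles m).app V ((HomologicalComplex.cyclesMap (Pi.π J i) m).app V z) =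
        ((Pi.π J i).f m).app V ((P.iCycles m).app V z) := fun i V z =>
    congrArg (fun ψ => ψ.app V z) (HomologicalComplex.cyclesMap_i (Pi.π J i) m)
  refine ⟨(injective_iff_map_eq_zero _).2 fun s hs => ?_, fun s => ?_⟩
  · refine TopCat.Presheaf.section_ext ((QCohLib.toAbF X).obj (P.homology m) :
      TopCat.Sheaf AddCommGrpCat _) U s 0 fun p hp => ?_
    obtain ⟨V₀, hV₀, t, hpV₀, ht⟩ := RpushLib.exists_local_lift (P.homologyπ m) s hp
    obtain ⟨V, hV, hpV, hVle⟩ := Opens.isBasis_iff_nbhd.1 X.isBasis_affineOpens hpV₀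
    let z := (P.cycles m).presheaf.map (homOfLE hVle).op t
    have hz : (P.homologyπ m).app V z =
        (P.homology m).presheaf.map (homOfLE (hVle.trans hV₀)).op s := by
      refine (QCohLib.app_map (P.homologyπ m) (homOfLE hVle) t).trans ?_
      rw [ht, QCohLib.map_map']
      rfl
    have hzero : ∀ i, ((J i).homologyπ m).app V
        ((HomologicalComplex.cyclesMap (Pi.π J i) m).app V z) = 0 := fun i => by
      rw [← hcomp i z, hz, QCohLib.app_map, QCohLib.app_map]
      rw [show φ.app U s = 0 from hs, map_zero, map_zero]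
    choose w hw using fun i => (h V hV i).exact _ (hzero i)
    obtain ⟨w', hw'⟩ := sec_lift (hP (m - 1)) w
    have hzw : (P.toCycles (m - 1) m).app V w' = z := by
      refine QCohLib.app_injective_of_mono (P.iCycles m) V (sec_ext (hP m) fun i => ?_)
      change ((Pi.π J i).f m).app V _ = ((Pi.π J i).f m).app V _
      have e1 := congrArg (fun ψ => ψ.app V w') (P.toCycles_i (m - 1) m)
      have e2 := congrArg (fun ψ => ψ.app V w') ((Pi.π J i).comm (m - 1) m)
      have e3 := congrArg (fun ψ => ψ.app V (w i)) ((J i).toCycles_i (m - 1) m)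
      refine (congrArg (((Pi.π J i).f m).app V) e1).trans ?_
      refine e2.symm.trans ?_
      refine (congrArg (((J i).d (m - 1) m).app V) (hw' i)).trans ?_
      refine e3.symm.trans ?_
      refine (congrArg (((J i).iCycles m).app V) (hw i)).trans ?_
      exact hcyc i z
    have hres : (P.homology m).presheaf.map (homOfLE (hVle.trans hV₀)).op s = 0 := by
      rw [← hz, ← hzw]
      exact congrArg (fun ψ => ψ.app V w') (P.toCycles_comp_homologyπ (m - 1) m)
    exact TopCat.Presheaf.germ_ext _ V hpV (homOfLE (hVle.trans hV₀)) (homOfLE (hVle.trans hV₀))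
      (hres.trans (map_zero _).symm)
  · choose z hz using fun i => (h U hU i).surj ((Pi.π (fun i => (J i).homology m) i).app U s)
    obtain ⟨x, hx⟩ := sec_lift (hP m) fun i => ((J i).iCycles m).app U (z i)
    have hdx : (P.d m (m + 1)).app U x = 0 := by
      refine sec_ext (hP (m + 1)) fun i => ?_
      change ((Pi.π J i).f (m + 1)).app U _ = ((Pi.π J i).f (m + 1)).app U _
      refine (congrArg (fun ψ => ψ.app U x) ((Pi.π J i).comm m (m + 1))).symm.trans ?_
      refine (congrArg (((J i).d m (m + 1)).app U) (hx i)).trans ?_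
      refine (congrArg (fun ψ => ψ.app U (z i)) ((J i).iCycles_d m (m + 1))).trans ?_
      rw [map_zero]
      rfl
    obtain ⟨y, hy⟩ := QCohLib.exists_of_app_eq_zero
      (S := ShortComplex.mk (P.iCycles m) (P.d m (m + 1)) (P.iCycles_d _ _))
      (ShortComplex.exact_of_f_is_kernel _ (P.cyclesIsKernel m (m + 1) (by simp))) inferInstance x hdx
    refine ⟨(P.homologyπ m).app U y, sec_ext hH fun i => ?_⟩
    refine (hcomp i y).trans (Eq.trans (congrArg (((J i).homologyπ m).app U) ?_) (hz i))
    refine QCohLib.app_injective_of_mono ((J i).iCycles m) U ((hcyc i y).trans ?_)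
    exact (congrArg (((Pi.π J i).f m).app U) hy).trans (hx i)

theorem isIso_comparison (m : ℤ) (h : ∀ V : X.Opens, IsAffineOpen V → ∀ i, AffExact (J i) V m) :
    IsIso (Pi.lift fun i => HomologicalComplex.homologyMap (Pi.π J i) m :
      (∏ᶜ J).homology m ⟶ ∏ᶜ fun i => (J i).homology m) :=
  RpushLib.isIso_of_bijective_basis _ X.isBasis_affineOpens
    fun _ hU => bijective_comparison J hU m h

omit [HasProduct J] in
theorem exists_kInjective_bounded (K : DCoh.D X) (a : ℤ) [K.IsGE a] :
    ∃ (I : CochainComplex X.Modules ℤ), I.IsKInjective ∧ Flasque I ∧ I.IsStrictlyGE a ∧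
      Nonempty (K ≅ DerivedCategory.Q.obj I) := by
  obtain ⟨L, hL, ⟨eL⟩⟩ := DerivedCategory.exists_iso_Q_obj_of_isGE K a
  haveI : EnoughInjectives X.Modules := IsGrothendieckAbelian.enoughInjectives.{u}
  obtain ⟨I, i, hI, hinj, -, hi⟩ :=
    Groth.Agent.DerLib.Horseshoe.exists_injective_resolution L a
  haveI := hI
  haveI := hinj
  haveI := hi
  exact ⟨I, CochainComplex.isKInjective_of_injective I a, flasque_of_injective I, hI,
    ⟨eL ≪≫ asIso (DerivedCategory.Q.map i)⟩⟩

/-- Cohomology sheaves commute with products of bounded below objects with quasi-coherent cohomology. -/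
theorem isIso_prodComparison {κ : Type} (K : κ → DCoh.D X) [HasProduct K] (a : κ → ℤ)
    (hGE : ∀ k, (K k).IsGE (a k)) (hq : ∀ k, DCoh.IsQCohD (K k)) (m : ℤ) :
    IsIso (piComparison (DerivedCategory.homologyFunctor X.Modules m) K) := by
  haveI := hGE
  choose I hI hfl hge e using fun k => exists_kInjective_bounded (K k) (a k)
  haveI := Groth.Agent.DerLib.KInjUse.isKInjective_pi I hI
  let eI := fun k => (e k).some
  let G := DerivedCategory.homologyFunctor X.Modules m
  have hq' : ∀ k q, Coh.IsQCoh ((I k).homology q) := fun k q =>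
    have := hq k q
    QCohLib.isQCoh_of_iso ((DerivedCategory.homologyFunctor X.Modules q).mapIso (eI k) ≪≫
      (DerivedCategory.homologyFunctorFactors X.Modules q).app (I k))
  haveI := isIso_comparison I m fun V hV k => by
    haveI := hge k
    exact affExact (hfl k) (a k) (hq' k) hV m
  let c : Fan K := Fan.mk (DerivedCategory.Q.obj (∏ᶜ I))
    fun k => DerivedCategory.Q.map (Pi.π I k) ≫ (eI k).inv
  have hc : IsLimit c := by
    haveI : ∀ k, (I k).IsKInjective := hI
    have key : ∀ (W : DCoh.D X) (g : ∀ k, W ⟶ K k), ∃! l, ∀ k, l ≫ c.proj k = g k := by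
      intro W g
      let L := DerivedCategory.Q.objPreimage W
      let eW : DerivedCategory.Q.obj L ≅ W := DerivedCategory.Q.objObjPreimageIso W
      choose g' hg' using fun k =>
        Groth.Agent.DerLib.KInjUse.Q_map_surjective L (I k) (eW.hom ≫ g k ≫ (eI k).hom)
      refine ⟨eW.inv ≫ DerivedCategory.Q.map (Pi.lift g'), fun k => ?_, fun y hy => ?_⟩
      · change (eW.inv ≫ DerivedCategory.Q.map (Pi.lift g')) ≫
          DerivedCategory.Q.map (Pi.π I k) ≫ (eI k).inv = g k
        rw [Category.assoc, ← Functor.map_comp_assoc, Pi.lift_π, hg']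
        simp
      · obtain ⟨y', hy'⟩ := Groth.Agent.DerLib.KInjUse.Q_map_surjective L (∏ᶜ I) (eW.hom ≫ y)
        rw [← cancel_epi eW.hom, Iso.hom_inv_id_assoc, ← hy', ← sub_eq_zero, ← Functor.map_sub]
        refine Groth.Agent.DerLib.KInjUse.Q_map_zero_of_quotient
          (Groth.Agent.DerLib.KInjUse.quotient_eq_zero_of_pi _ fun k =>
            Groth.Agent.DerLib.KInjUse.quotient_eq_zero_of_Q ?_)
        rw [Functor.map_comp, Functor.map_sub, Preadditive.sub_comp, hy', ← Functor.map_comp,
          Pi.lift_π, hg', sub_eq_zero, Category.assoc, ← cancel_mono (eI k).inv]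
        have := hy k
        simp only [Category.assoc, Iso.hom_inv_id, Category.comp_id]
        exact congrArg (eW.hom ≫ ·) this
    exact mkFanLimit c (fun s => (key s.pt s.proj).choose) (fun s k => (key s.pt s.proj).choose_spec.1 k)
      (fun s l hl => (key s.pt s.proj).choose_spec.2 l hl)
  let eH : ∀ k, G.obj (K k) ≅ (I k).homology m := fun k =>
    G.mapIso (eI k) ≪≫ (DerivedCategory.homologyFunctorFactors X.Modules m).app (I k)
  let q := (hc.conePointUniqueUpToIso (productIsProduct K))
  have : IsIso (G.map q.hom ≫ piComparison G K ≫ Limits.Pi.map fun k => (eH k).hom) := by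
    have he : G.map q.hom ≫ piComparison G K ≫ Limits.Pi.map (fun k => (eH k).hom) =
        ((DerivedCategory.homologyFunctorFactors X.Modules m).app (∏ᶜ I)).hom ≫
          Pi.lift fun k => HomologicalComplex.homologyMap (Pi.π I k) m := by
      refine Pi.hom_ext _ _ fun k => ?_
      have hq0 : q.hom ≫ Pi.π K k = DerivedCategory.Q.map (Pi.π I k) ≫ (eI k).inv :=
        IsLimit.conePointUniqueUpToIso_hom_comp hc (productIsProduct K) ⟨k⟩
      simp only [Category.assoc, Limits.Pi.map_π, Pi.lift_π]
      rw [piComparison_comp_π_assoc, ← G.map_comp_assoc, hq0]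
      change G.map _ ≫ G.map (eI k).hom ≫ _ = _
      rw [← G.map_comp_assoc, Category.assoc, Iso.inv_hom_id, Category.comp_id]
      exact (DerivedCategory.homologyFunctorFactors X.Modules m).hom.naturality (Pi.π I k)
    rw [he]
    exact @IsIso.comp_isIso _ _ _ _ _ _ _ (Iso.isIso_hom _) ‹_›
  have : IsIso (piComparison G K ≫ Limits.Pi.map fun k => (eH k).hom) :=
    IsIso.of_isIso_comp_left (G.map q.hom) _
  exact IsIso.of_isIso_comp_right _ (Limits.Pi.map fun k => (eH k).hom)

end QRlimLib
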